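import Cfsg.Agent.Lib.U62Three.W.Geometry
import Cfsg.Agent.Lib.U62Three.Transfer.Cent

/-!
The elementary abelian subgroup of order 81, its centraliser and its normaliser: lifts commuting with the
involution, the sign at the top, and the elements which normalise it because they map a singular vector and a vector
not orthogonal to it into the centraliser.
-/

set_option autoImplicit false
set_option linter.style.haveILetI false
set_option linter.unusedSectionVars false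

namespace Cfsg.Agent.U62Three

open Subgroup
open Co2Three (V4 qf bf e0 e1 e2 e3 refl1 pw pw_one pw_mem elHom)
open scoped commutatorElement

theorem shift_singular : ∀ u v : V4, qf u = 0 → bf u v ≠ 0 →
    ∃ a : ZMod 3, qf (v + a • u) = 0 ∧ v + a • u ≠ 0 ∧ bf u (v + a • u) ≠ 0 := by decide +kernel

theorem opposite_form : ∀ v : V4, qf v = 0 → v 3 ≠ 0 →
    ∃ c : ZMod 3, c ≠ 0 ∧ ∃ a b : ZMod 3, v = c • ![a * a + b * b, a, b, 1] := by decide +kernel

theorem bf_symm : ∀ u v : V4, bf u v = bf v u := by decide +kernel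

theorem double_neg : ∀ v : V4, v + refl1 v = 0 → refl1 v = -v ∧ refl1 (-v) = v ∧ (-v + -v) = v := by decide +kernel

theorem double_self : ∀ v : V4, v + v = 0 → v = 0 := by decide +kernel

namespace Loc

variable {G : Type*} [Group G] [Finite G] (L : Loc G)

/-- The elementary abelian group of order 81 as a subgroup. -/
def J : Subgroup G := (elHom L.el L.jd.el_add).range

/-- Its normaliser. -/
def NJ : Subgroup G := normalizer (L.J : Set G)

/-- The action of an element on it. -/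
def Act (g : G) (M : Matrix (Fin 4) (Fin 4) (ZMod 3)) : Prop := ∀ v, g * L.el v * g⁻¹ = L.el (M.mulVec v)

theorem el_zero : L.el 0 = 1 := Transfer.el_zero L.jd

theorem el_comm (u v : V4) : Commute (L.el u) (L.el v) := Transfer.el_comm L.jd u v

theorem el_add (u v : V4) : L.el (u + v) = L.el u * L.el v := L.jd.el_add u v

theorem el_inj {u v : V4} (h : L.el u = L.el v) : u = v := L.jd.el_inj h

theorem el_neg (v : V4) : L.el (-v) = (L.el v)⁻¹ :=
  eq_inv_of_mul_eq_one_left (by rw [← L.el_add, neg_add_cancel, L.el_zero])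

theorem el_sub (u v : V4) : L.el (u - v) = L.el u * (L.el v)⁻¹ := by
  rw [sub_eq_add_neg, L.el_add, L.el_neg]

theorem el_smul (k : ZMod 3) (v : V4) : L.el (k • v) = L.el v ^ k.val := by
  rw [← el_natCast_smul L.el L.jd.el_add, ZMod.natCast_zmod_val]

theorem el_eq_one {v : V4} : L.el v = 1 ↔ v = 0 :=
  ⟨fun h => L.el_inj (h.trans L.el_zero.symm), fun h => by rw [h, L.el_zero]⟩

theorem el_cube (v : V4) : L.el v ^ 3 = 1 := by
  rw [← el_natCast_smul L.el L.jd.el_add, show ((3 : ℕ) : ZMod 3) = 0 from rfl, zero_smul, L.el_zero]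

theorem mem_J {x : G} : x ∈ L.J ↔ ∃ v, L.el v = x :=
  ⟨fun ⟨v, hv⟩ => ⟨v.toAdd, hv⟩, fun ⟨v, hv⟩ => ⟨Multiplicative.ofAdd v, hv⟩⟩

theorem el_mem_J (v : V4) : L.el v ∈ L.J := L.mem_J.2 ⟨v, rfl⟩

theorem card_J : Nat.card L.J = 81 := by
  rw [J, ← Nat.card_congr (MonoidHom.ofInjective (f := elHom L.el L.jd.el_add) fun a b h =>
    L.jd.el_inj h).toEquiv]
  simp [Nat.card_eq_fintype_card, V4]

theorem mem_NJ_of {g : G} (h : ∀ v, ∃ w, g * L.el v * g⁻¹ = L.el w) : g ∈ L.NJ :=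
  Subgroup.mem_normalizer_fintype fun x hx => by
    obtain ⟨v, rfl⟩ := L.mem_J.1 hx
    obtain ⟨w, hw⟩ := h v
    exact L.mem_J.2 ⟨w, hw.symm⟩

theorem NJ_img {g : G} (hg : g ∈ L.NJ) (v : V4) : ∃ w, g * L.el v * g⁻¹ = L.el w := by
  obtain ⟨w, hw⟩ := L.mem_J.1 ((mem_normalizer_iff.1 hg _).1 (L.el_mem_J v))
  exact ⟨w, hw.symm⟩

theorem NJ_act {g : G} (hg : g ∈ L.NJ) : ∃ M, Iso M ∧ L.Act g M := L.norm_iso g (L.NJ_img hg)

variable {L}

theorem Act.mem_NJ {g : G} {M : Matrix (Fin 4) (Fin 4) (ZMod 3)} (h : L.Act g M) : g ∈ L.NJ :=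
  L.mem_NJ_of fun v => ⟨_, h v⟩

theorem Act.iso {g : G} {M : Matrix (Fin 4) (Fin 4) (ZMod 3)} (h : L.Act g M) : Iso M := by
  obtain ⟨N, hN, hNv⟩ := L.NJ_act h.mem_NJ
  intro v
  rw [← L.el_inj ((hNv v).symm.trans (h v))]
  exact hN v

theorem Act.mul {g h : G} {M N : Matrix (Fin 4) (Fin 4) (ZMod 3)} (hg : L.Act g M) (hh : L.Act h N) :
    L.Act (g * h) (M * N) := fun v => by
  rw [← Matrix.mulVec_mulVec, ← hg, ← hh]
  group

theorem Act.inv_apply {g : G} {M : Matrix (Fin 4) (Fin 4) (ZMod 3)} (h : L.Act g M) (v : V4) :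
    g⁻¹ * L.el (M.mulVec v) * g = L.el v := by rw [← h]; group

theorem Act.one : L.Act 1 1 := fun v => by rw [Matrix.one_mulVec]; group

theorem Act.commute_iff {g : G} {M : Matrix (Fin 4) (Fin 4) (ZMod 3)} (h : L.Act g M) {v : V4} :
    Commute g (L.el v) ↔ M.mulVec v = v := by
  constructor
  · intro hc
    refine L.el_inj ?_
    rw [← h, hc.eq, mul_inv_cancel_right]
  · intro e
    refine mul_inv_eq_iff_eq_mul.1 ?_
    rw [h, e]

theorem Act.mem_K {g : G} (h : L.Act g 1) : g ∈ L.K :=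
  (L.mem_K g).2 fun _ => h.commute_iff.2 (Matrix.one_mulVec _)

variable (L)

theorem K_act {g : G} (h : g ∈ L.K) : L.Act g 1 := fun v => by
  rw [Matrix.one_mulVec, ((L.mem_K g).1 h v).eq, mul_inv_cancel_right]

theorem K_le_NJ : L.K ≤ L.NJ := fun _ hg => (L.K_act hg).mem_NJ

theorem el_mem_K (v : V4) : L.el v ∈ L.K := (L.mem_K _).2 fun u => L.el_comm v u

theorem J_le_K : L.J ≤ L.K := fun x hx => by
  obtain ⟨v, rfl⟩ := L.mem_J.1 hx
  exact L.el_mem_K v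

theorem K_commute {x y : G} (hx : x ∈ L.K) (hy : y ∈ L.K) : Commute x y :=
  haveI := L.K_comm
  congrArg Subtype.val (mul_comm' (⟨x, hx⟩ : L.K) ⟨y, hy⟩)

theorem conj_K {g x : G} (hg : g ∈ L.NJ) (hx : x ∈ L.K) : g * x * g⁻¹ ∈ L.K := by
  obtain ⟨M, hM, hMv⟩ := L.NJ_act hg
  refine (L.mem_K _).2 fun w => ?_
  obtain ⟨v, rfl⟩ := hM.surjective w
  rw [← hMv]
  exact ((L.mem_K x).1 hx v).conj g

/-! ### The involution -/

theorem t_inv' : L.S.t⁻¹ = L.S.t := inv_eq_of_mul_eq_one_right L.S.t_sq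

theorem t_act' : L.Act L.S.t r1M := fun v => by rw [r1M_mulVec, L.t_act]

theorem t_mem_NJ : L.S.t ∈ L.NJ := L.t_act'.mem_NJ

theorem t_commute_el {v : V4} : Commute L.S.t (L.el v) ↔ v 1 = 0 := by
  rw [L.t_act'.commute_iff, r1M_mulVec, refl1_fix_iff]

theorem mem_Ct {g : G} : g ∈ centralizer ({L.S.t} : Set G) ↔ Commute g L.S.t :=
  mem_centralizer_singleton_iff

theorem act_refl {g : G} (hg : Commute g L.S.t) {M : Matrix (Fin 4) (Fin 4) (ZMod 3)} (h : L.Act g M) (v : V4) :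
    M.mulVec (refl1 v) = refl1 (M.mulVec v) := by
  refine L.el_inj ?_
  rw [← h, ← L.t_act, ← L.t_act, ← h]
  calc g * (L.S.t * L.el v * L.S.t⁻¹) * g⁻¹ = g * L.S.t * L.el v * (g * L.S.t)⁻¹ := by group
    _ = L.S.t * g * L.el v * (L.S.t * g)⁻¹ := by rw [hg.eq]
    _ = L.S.t * (g * L.el v * g⁻¹) * L.S.t⁻¹ := by group

theorem mem_Kt {x : G} : x ∈ L.Kt ↔ x ∈ L.K ∧ Commute x L.S.t := by
  rw [Loc.Kt, Subgroup.mem_inf, L.mem_Ct]

theorem el_mem_Kt {v : V4} (h : v 1 = 0) : L.el v ∈ L.Kt :=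
  L.mem_Kt.2 ⟨L.el_mem_K v, (L.t_commute_el.2 h).symm⟩

theorem el_mem_Kt_iff {v : V4} : L.el v ∈ L.Kt ↔ v 1 = 0 :=
  ⟨fun h => L.t_commute_el.1 (L.mem_Kt.1 h).2.symm, L.el_mem_Kt⟩

theorem Kt_commute {x y : G} (hx : x ∈ L.Kt) (hy : y ∈ L.Kt) : Commute x y :=
  L.K_commute (L.mem_Kt.1 hx).1 (L.mem_Kt.1 hy).1

theorem Kt_cube {x : G} (hx : x ∈ L.Kt) : x ^ 3 = 1 := L.K_exp x (L.mem_Kt.1 hx).1

theorem conj_Kt {g x : G} (hg : g ∈ L.NJ) (hgt : Commute g L.S.t) (hx : x ∈ L.Kt) : g * x * g⁻¹ ∈ L.Kt := by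
  refine L.mem_Kt.2 ⟨L.conj_K hg (L.mem_Kt.1 hx).1, ?_⟩
  have h := (L.mem_Kt.1 hx).2.conj g
  rwa [hgt.eq, mul_inv_cancel_right] at h

/-- Above the subgroup of order 81 the centraliser is cyclic over it. -/
def Gen (k : G) : Prop := ∀ x ∈ L.K, ∃ i : ℕ, ∃ v, x = k ^ i * L.el v

theorem gen_of_81 (h : Nat.card L.K = 81) (k : G) : L.Gen k := fun x hx => by
  have e : L.J = L.K := eq_of_le_of_card_ge L.J_le_K (by rw [L.card_J, h])
  obtain ⟨v, hv⟩ := L.mem_J.1 (e.ge hx)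
  exact ⟨0, v, by rw [pow_zero, one_mul, hv]⟩

theorem card_81_of {k : G} (hk : k ∈ L.K) (h : ∀ v, k ≠ L.el v) : Nat.card L.K = 243 := by
  refine L.K_card.resolve_left fun h81 => ?_
  have e : L.J = L.K := eq_of_le_of_card_ge L.J_le_K (by rw [L.card_J, h81])
  obtain ⟨v, hv⟩ := L.mem_J.1 (e.ge hk)
  exact h v hv.symm

theorem not_J_243 (h : Nat.card L.K = 243) : ∃ x ∈ L.K, ∀ v, x ≠ L.el v := by
  by_contra hc
  push Not at hc
  have hle : L.K ≤ L.J := fun x hx => by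
    obtain ⟨v, hv⟩ := hc x hx
    exact L.mem_J.2 ⟨v, hv.symm⟩
  have := card_le_of_le hle
  rw [L.card_J, h] at this
  omega

theorem gen_of_not_J {k : G} (hk : k ∈ L.K) (h : ∀ v, k ≠ L.el v) : L.Gen k := by
  classical
  have hkJ : k ∉ L.J := fun hm => by
    obtain ⟨v, hv⟩ := L.mem_J.1 hm
    exact h v hv.symm
  have hle : L.J ⊔ zpowers k ≤ L.K := sup_le L.J_le_K (zpowers_le.2 hk)
  have hlt : L.J < L.J ⊔ zpowers k := lt_of_le_of_ne le_sup_left fun e =>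
    hkJ (e.ge (mem_sup_right (mem_zpowers k)))
  have heq : L.J ⊔ zpowers k = L.K := by
    refine eq_of_le_of_card_ge hle ?_
    have h1 := card_dvd_of_le hle
    have h2 : 81 < Nat.card ↥(L.J ⊔ zpowers k) := by
      rw [← L.card_J]
      exact lt_of_le_of_ne (card_le_of_le hlt.le) fun e => hlt.ne (eq_of_le_of_card_ge hlt.le e.ge)
    rw [L.card_81_of hk h] at h1 ⊢
    rw [show (243 : ℕ) = 3 ^ 5 by norm_num] at h1 ⊢
    obtain ⟨i, hi, e⟩ := (Nat.dvd_prime_pow Nat.prime_three).1 h1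
    rw [e] at h2 ⊢
    refine Nat.pow_le_pow_right (by norm_num) ?_
    by_contra hlt'
    have := Nat.pow_le_pow_right (show 0 < 3 by norm_num) (show i ≤ 4 by omega)
    omega
  intro x hx
  rw [← heq, sup_comm] at hx
  obtain ⟨a, ha, b, hb, rfl⟩ := mem_sup_of_normal_right_or (L := L) hk hx
  obtain ⟨i, rfl⟩ := (isOfFinOrder_of_finite k).mem_powers_iff_mem_zpowers.2 ha
  obtain ⟨v, rfl⟩ := L.mem_J.1 hb
  exact ⟨i, v, rfl⟩
where
  mem_sup_of_normal_right_or {L : Loc G} {k x : G} (hk : k ∈ L.K) (hx : x ∈ zpowers k ⊔ L.J) :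
      ∃ a ∈ zpowers k, ∃ b ∈ L.J, a * b = x := by
    have hn : zpowers k ≤ normalizer (L.J : Set G) := zpowers_le.2 (L.K_le_NJ hk)
    rw [← SetLike.mem_coe, coe_mul_of_left_le_normalizer_right _ _ hn] at hx
    exact Set.mem_mul.1 hx

theorem exists_Kt_243 (h : Nat.card L.K = 243) : ∃ k ∈ L.Kt, ∀ v, k ≠ L.el v := by
  obtain ⟨x, hx, hxv⟩ := L.not_J_243 h
  rcases L.sign h L.S.t r1M L.t_act' with ⟨-, hs⟩ | ⟨hns, -⟩
  swap
  · exact absurd (Or.inr ⟨1, isRot_one, (one_mul r1M).symm⟩) hns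
  obtain ⟨v, hv⟩ := hs x hx
  have h2 : x = x * L.el v * L.el (refl1 v) := by
    calc x = L.S.t * (L.S.t * x * L.S.t⁻¹) * L.S.t⁻¹ := by
          rw [show L.S.t * (L.S.t * x * L.S.t⁻¹) * L.S.t⁻¹ = (L.S.t * L.S.t) * x * (L.S.t * L.S.t)⁻¹ by group,
            L.S.t_sq]
          group
      _ = L.S.t * (x * L.el v) * L.S.t⁻¹ := by rw [hv]
      _ = (L.S.t * x * L.S.t⁻¹) * (L.S.t * L.el v * L.S.t⁻¹) := by group
      _ = x * L.el v * L.el (refl1 v) := by rw [hv, L.t_act]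
  rw [mul_assoc, ← L.el_add, left_eq_mul, L.el_eq_one] at h2
  obtain ⟨hr, hr', hvv⟩ := double_neg v h2
  refine ⟨x * L.el (-v), L.mem_Kt.2 ⟨mul_mem hx (L.el_mem_K _), ?_⟩, fun w hw => hxv (w + v) ?_⟩
  · refine (mul_inv_eq_iff_eq_mul.1 ?_ : Commute L.S.t _).symm
    rw [show L.S.t * (x * L.el (-v)) * L.S.t⁻¹ = (L.S.t * x * L.S.t⁻¹) * (L.S.t * L.el (-v) * L.S.t⁻¹) by group,
      hv, L.t_act, hr', mul_assoc, ← L.el_add]
    refine congrArg (x * L.el ·) ?_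
    rw [← eq_sub_iff_add_eq] at hvv
    calc v + v = -(-v + -v) := by abel
      _ = -v := by rw [eq_sub_iff_add_eq.1 hvv]
  · rw [L.el_add, ← hw, mul_assoc, ← L.el_add, neg_add_cancel, L.el_zero, mul_one]

/-- An element of the centraliser generating it over the subgroup of order 81. -/
theorem exists_gen : ∃ k ∈ L.Kt, L.Gen k := by
  rcases L.K_card with h | h
  · exact ⟨1, one_mem _, L.gen_of_81 h 1⟩
  · obtain ⟨k, hk, hkv⟩ := L.exists_Kt_243 h
    exact ⟨k, hk, L.gen_of_not_J (L.mem_Kt.1 hk).1 hkv⟩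

/-! ### Lifts and the sign -/

theorem realise {M : Matrix (Fin 4) (Fin 4) (ZMod 3)} (hM : IsS6 M) : ∃ g : G, L.Act g M := by
  rcases hM with h | ⟨R, hR, rfl⟩
  · exact L.jd.rot M h
  · obtain ⟨g, hg⟩ := L.jd.rot R hR
    exact ⟨g * L.S.t, Act.mul (L := L) (g := g) hg L.t_act'⟩

/-- An isometry of the group of order 720 commuting with the reflection is induced in the centraliser of the
involution. -/
theorem exists_lift {M : Matrix (Fin 4) (Fin 4) (ZMod 3)} (hM : IsS6 M)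
    (hc : ∀ v, M.mulVec (refl1 v) = refl1 (M.mulVec v)) : ∃ g : G, Commute g L.S.t ∧ L.Act g M := by
  obtain ⟨g, hg⟩ := L.realise hM
  set k := g * L.S.t * g⁻¹ * L.S.t⁻¹ with hk
  have hkK : k ∈ L.K := (L.mem_K k).2 fun w => by
    obtain ⟨u, hu⟩ := hM.iso.surjective (refl1 w)
    refine mul_inv_eq_iff_eq_mul.1 ?_
    have e1 : L.S.t⁻¹ * L.el w * L.S.t = L.el (M.mulVec u) := by
      rw [hu]
      conv_rhs => rw [← L.t_act, ← L.t_inv']
      rw [inv_inv]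
    calc k * L.el w * k⁻¹ = g * L.S.t * (g⁻¹ * (L.S.t⁻¹ * L.el w * L.S.t) * g) * L.S.t⁻¹ * g⁻¹ := by rw [hk]; group
      _ = g * (L.S.t * L.el u * L.S.t⁻¹) * g⁻¹ := by rw [e1, hg.inv_apply]; group
      _ = L.el w := by rw [L.t_act, hg, hc, hu, (refl1_two w).1]
  have hgt : g * L.S.t * g⁻¹ = k * L.S.t := by rw [hk]; group
  have hinv : L.S.t * k * L.S.t = k⁻¹ := by
    refine eq_inv_of_mul_eq_one_left ?_
    have h2 : k * L.S.t * (k * L.S.t) = 1 := by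
      rw [← hgt, show g * L.S.t * g⁻¹ * (g * L.S.t * g⁻¹) = g * (L.S.t * L.S.t) * g⁻¹ by group, L.S.t_sq]
      group
    calc L.S.t * k * L.S.t * k = k⁻¹ * (k * L.S.t * (k * L.S.t)) * k := by group
      _ = 1 := by rw [h2]; group
  have hconj : ∀ n : ℕ, L.S.t * k ^ n * L.S.t = (k ^ n)⁻¹ := fun n => by
    calc L.S.t * k ^ n * L.S.t = L.S.t * k ^ n * L.S.t⁻¹ := by rw [L.t_inv']
      _ = (L.S.t * k * L.S.t⁻¹) ^ n := (conj_pow).symm
      _ = (k ^ n)⁻¹ := by rw [L.t_inv', hinv, inv_pow]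
  have hwt : k ^ 2 * L.S.t * (k ^ 2)⁻¹ = k * L.S.t := by
    calc k ^ 2 * L.S.t * (k ^ 2)⁻¹ = k ^ 2 * L.S.t * (L.S.t * k ^ 2 * L.S.t) := by rw [hconj]
      _ = k ^ 2 * (L.S.t * L.S.t) * k ^ 2 * L.S.t := by group
      _ = k * L.S.t := by
        rw [L.S.t_sq, mul_one, ← pow_add, show 2 + 2 = 3 + 1 from rfl, pow_succ, L.K_exp k hkK, one_mul]
  refine ⟨(k ^ 2)⁻¹ * g, mul_inv_eq_iff_eq_mul.1 ?_, ?_⟩
  · calc (k ^ 2)⁻¹ * g * L.S.t * ((k ^ 2)⁻¹ * g)⁻¹ = (k ^ 2)⁻¹ * (g * L.S.t * g⁻¹) * k ^ 2 := by group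
      _ = L.S.t := by rw [hgt, ← hwt]; group
  · have h := Act.mul (L := L) (L.K_act (inv_mem (pow_mem hkK 2))) hg
    rwa [one_mul] at h

/-- The sign of a member of the group of order 720. -/
theorem sign_left {g : G} {M : Matrix (Fin 4) (Fin 4) (ZMod 3)} (hg : L.Act g M) (hM : IsS6 M) {x : G}
    (hx : x ∈ L.K) : ∃ v, g * x * g⁻¹ = x * L.el v := by
  rcases L.K_card with h | h
  · have hgx := L.conj_K hg.mem_NJ hx
    obtain ⟨i, v, rfl⟩ := L.gen_of_81 h 1 x hx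
    obtain ⟨j, w, hw⟩ := L.gen_of_81 h 1 _ hgx
    refine ⟨w - v, ?_⟩
    rw [hw, one_pow, one_pow, one_mul, one_mul, ← L.el_add, add_sub_cancel]
  · rcases L.sign h g M hg with ⟨-, hs⟩ | ⟨hns, -⟩
    · exact hs x hx
    · exact absurd hM hns

/-- An element centralising one outside the subgroup of order 81 has sign plus. -/
theorem isS6_of_fix {g : G} {M : Matrix (Fin 4) (Fin 4) (ZMod 3)} (hg : L.Act g M) {x : G} (hx : x ∈ L.K)
    (hxv : ∀ v, x ≠ L.el v) (hc : Commute g x) : IsS6 M := by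
  rcases L.sign (L.card_81_of hx hxv) g M hg with ⟨hS, -⟩ | ⟨-, hs⟩
  · exact hS
  obtain ⟨v, hv⟩ := hs x hx
  rw [hc.eq, mul_inv_cancel_right] at hv
  refine absurd ?_ (hxv (-v))
  rw [L.el_neg, ← hv]
  calc x = x ^ 3 * (x * x)⁻¹ := by group
    _ = (x * x)⁻¹ := by rw [L.K_exp x hx, one_mul]

/-- A conjugate inside the centraliser of an element of the subgroup of order 81 lies there. -/
theorem class_el {g : G} {v : V4} (h : g * L.el v * g⁻¹ ∈ L.K) :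
    ∃ w, g * L.el v * g⁻¹ = L.el w ∧ qf w = qf v := by
  obtain ⟨n, hn, he⟩ := L.K_fusion _ (L.el_mem_K v) g h
  obtain ⟨M, hM, hMv⟩ := L.norm_iso n hn
  exact ⟨_, by rw [← he, hMv], hM v⟩

theorem z_commute {g : G} : Commute g (L.el e0) ↔ Commute g L.S.z := by rw [L.z_eq]

theorem nj_zero {g : G} (hg : Commute g (L.el e0)) {v : V4} (hv : qf v = 0) (hv3 : v 3 ≠ 0)
    (him : g * L.el v * g⁻¹ ∈ L.K) : g ∈ L.NJ := by
  obtain ⟨c, hc, a, b, hab⟩ := opposite_form v hv hv3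
  obtain ⟨h, hh⟩ := L.jd.rot _ (isRot_tr a b)
  have hh' : L.Act h (trM a b) := hh
  have hh0 : Commute h (L.el e0) := hh'.commute_iff.2 (tr_facts a b 0).2.2.2.1
  set n := g * h with hn
  have hnz : Commute n (L.el e0) := hg.mul_left hh0
  obtain ⟨w, hw, -⟩ := L.class_el him
  have hvc : ![a * a + b * b, a, b, 1] = c • v := by
    rw [hab, smul_smul, show c * c = 1 from (by decide : ∀ c : ZMod 3, c ≠ 0 → c * c = 1) c hc, one_smul]
  have hne : n * L.el e3 * n⁻¹ = L.el (c • w) := by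
    rw [show n * L.el e3 * n⁻¹ = g * (h * L.el e3 * h⁻¹) * g⁻¹ by rw [hn]; group, hh',
      (tr_facts a b 0).2.2.2.2.2.2, hvc, L.el_smul, L.el_smul, ← conj_pow, hw]
  set u := c • w
  have B := Transfer.base L.jd
  have hu3 : u 3 ≠ 0 := fun h0 => by
    have hQ : n * L.el e3 * n⁻¹ ∈ L.S.Q := by rw [hne]; exact (L.jd.Q_J u).2 h0
    have := L.jd.pt.normal' hnz.inv_left hQ
    rw [show n⁻¹ * (n * L.el e3 * n⁻¹) * n⁻¹⁻¹ = L.el e3 by group] at this
    exact absurd ((L.jd.Q_J e3).1 this) (by decide)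
  have key : ∀ x ∈ B.J, n * x * n⁻¹ ∈ B.J := (B.normalise_iff hnz).2
    ⟨L.el (u - u 3 • e3), (L.jd.Q_J _).2 (smul_facts u 0).2.2, u 3, hu3, by
      rw [hne, pw, ← el_natCast_smul L.el L.jd.el_add (u 3).val e3, ZMod.natCast_zmod_val, ← L.el_add,
        sub_add_cancel]⟩
  have hnN : n ∈ L.NJ := L.mem_NJ_of fun x => by
    obtain ⟨y, hy⟩ := (Transfer.mem_J_iff L.jd).1 (key _ ((Transfer.mem_J_iff L.jd).2 ⟨x, rfl⟩))
    exact ⟨y, hy.symm⟩
  have := L.NJ.mul_mem hnN (L.NJ.inv_mem hh'.mem_NJ)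
  rwa [hn, mul_inv_cancel_right] at this

/-- An element mapping a singular vector and one not orthogonal to it into the centraliser normalises the subgroup
of order 81. -/
theorem nj_of_pair {g : G} {u v : V4} (hu0 : u ≠ 0) (hu : qf u = 0) (hb : bf u v ≠ 0)
    (h1 : g * L.el u * g⁻¹ ∈ L.K) (h2 : g * L.el v * g⁻¹ ∈ L.K) : g ∈ L.NJ := by
  obtain ⟨a, hv', -, hb'⟩ := shift_singular u v hu hb
  set v' := v + a • u
  have h2' : g * L.el v' * g⁻¹ ∈ L.K := by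
    rw [L.el_add, L.el_smul, show g * (L.el v * L.el u ^ a.val) * g⁻¹ =
      g * L.el v * g⁻¹ * (g * L.el u ^ a.val * g⁻¹) by group, ← conj_pow]
    exact mul_mem h2 (pow_mem h1 _)
  obtain ⟨w, hw, hwq⟩ := L.class_el h1
  rw [hu] at hwq
  have hw0 : w ≠ 0 := fun e => hu0 (by
    rw [e, L.el_zero, mul_inv_eq_one] at hw
    exact L.el_eq_one.1 (mul_eq_left.1 hw))
  obtain ⟨M, hM, hMu⟩ := exists_rot_to hu0 hu
  obtain ⟨N, hN, hNw⟩ := exists_rot_to hw0 hwq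
  obtain ⟨h, hh⟩ := L.jd.rot M hM
  obtain ⟨f, hf⟩ := L.jd.rot N hN
  have hhM : L.Act h M := hh
  have hfN : L.Act f N := hf
  have hui : h⁻¹ * L.el e0 * h = L.el u := by
    have := hhM.inv_apply u
    rwa [hMu] at this
  set n := f * g * h⁻¹ with hn
  have hnz : Commute n (L.el e0) := by
    refine mul_inv_eq_iff_eq_mul.1 ?_
    rw [show n * L.el e0 * n⁻¹ = f * (g * (h⁻¹ * L.el e0 * h) * g⁻¹) * f⁻¹ by rw [hn]; group, hui, hw, hfN,
      hNw]
  have hv3 : M.mulVec v' 3 ≠ 0 := by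
    rw [← bf_e0_right (M.mulVec v'), ← hMu, Iso.bf_eq (hM.qf_eq), bf_symm]
    exact hb'
  have hnJ := L.nj_zero hnz (v := M.mulVec v') (by rw [hM.qf_eq, hv']) hv3 (by
    rw [show n * L.el (M.mulVec v') * n⁻¹ = f * (g * (h⁻¹ * L.el (M.mulVec v') * h) * g⁻¹) * f⁻¹ by rw [hn]; group,
      hhM.inv_apply]
    exact L.conj_K hfN.mem_NJ h2')
  have := L.NJ.mul_mem (L.NJ.mul_mem (L.NJ.inv_mem hfN.mem_NJ) hnJ) hhM.mem_NJ
  rwa [hn, show f⁻¹ * (f * g * h⁻¹) * h = g by group] at this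

theorem conj_mem_K {g : G} {v : V4} (h : Commute g (L.el v)) : g * L.el v * g⁻¹ ∈ L.K := by
  rw [h.eq, mul_inv_cancel_right]
  exact L.el_mem_K v

/-- The centraliser of a singular vector and of one not orthogonal to it. -/
theorem nj_of_commute {g : G} {u v : V4} (hu0 : u ≠ 0) (hu : qf u = 0) (hb : bf u v ≠ 0)
    (h1 : Commute g (L.el u)) (h2 : Commute g (L.el v)) : g ∈ L.NJ :=
  L.nj_of_pair hu0 hu hb (L.conj_mem_K h1) (L.conj_mem_K h2)

theorem commute_add {g : G} {u v : V4} (h1 : Commute g (L.el u)) (h2 : Commute g (L.el v)) (i j : ZMod 3) :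
    Commute g (L.el (i • u + j • v)) := by
  rw [L.el_add, L.el_smul, L.el_smul]
  exact (h1.pow_right _).mul_right (h2.pow_right _)

end Loc

end Cfsg.Agent.U62Three
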