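import Cfsg.Agent.Lib.U62Three.W.Basic
import Cfsg.Agent.Lib.U62Three.Local.Kernel

/-!
The centraliser of the central element and of the involution: the centraliser of a point and of its tangent plane is
the centraliser of the subgroup of order 81, the quaternion group is the set of 2-elements of the centraliser of the
central element, of the involution and of `e2` inside the preimage of the core, hence is invariant under the whole
stabiliser of the point in the plane, and the second factor of the core induces translations.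
-/

set_option autoImplicit false
set_option linter.style.haveILetI false
set_option linter.unusedSectionVars false

namespace Cfsg.Agent.U62Three

open Subgroup
open Co2Three (V4 qf bf e0 e1 e2 e3 refl1 pw pw_one)
open scoped commutatorElement

theorem line_e0 : ∀ c : ZMod 3, c • e0 ≠ e1 ∧ c • e0 ≠ e2 ∧ (c • e0 : V4) 1 = 0 ∧ (c • e0 : V4) 3 = 0 ∧
    c • e0 ≠ e1 + e1 ∧ c • e0 ≠ e2 + e2 := by decide +kernel

theorem tr_image : ∀ w : V4, qf w = 0 → bf w e0 = 1 → bf w e1 = 0 → w = ![0 * 0 + w 2 * w 2, 0, w 2, 1] := by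
  decide +kernel

theorem tr_inverse : ∀ b : ZMod 3, ∀ v : V4, (trM 0 b).mulVec ((trM 0 (-b)).mulVec v) = v := by decide +kernel

theorem tr_e2 : ∀ b : ZMod 3, b ≠ 0 → (trM 0 b).mulVec e2 ≠ e2 ∧ ∀ c : ZMod 3, c = 0 ∨ c = b ∨ c = -b := by
  decide +kernel

theorem span_plane : ∀ v : V4, v 1 = 0 → v 3 = 0 → v = v 0 • e0 + v 2 • e2 := by decide +kernel

namespace Loc

variable {G : Type*} [Group G] [Finite G] (L : Loc G)

theorem pt : Pt L.S.Q L.S.z := L.z_eq ▸ L.jd.pt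

theorem exists_line {x : G} (hx : x ∈ zpowers L.S.z) : ∃ c : ZMod 3, x = L.el (c • e0) := by
  rcases L.pt.zpow_cases hx with e | e | e
  · exact ⟨0, by rw [zero_smul, L.el_zero, e]⟩
  · exact ⟨1, by rw [one_smul, L.z_eq, e]⟩
  · exact ⟨-1, by rw [neg_one_smul, L.el_neg, L.z_eq, e]⟩

theorem e1_notZ : L.el e1 ∉ zpowers L.S.z := fun h => by
  obtain ⟨c, hc⟩ := L.exists_line h
  exact (line_e0 c).1 (L.el_inj hc).symm

theorem e2_notZ : L.el e2 ∉ zpowers L.S.z := fun h => by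
  obtain ⟨c, hc⟩ := L.exists_line h
  exact (line_e0 c).2.1 (L.el_inj hc).symm

theorem el_z (v : V4) : Commute (L.el v) L.S.z := L.z_eq ▸ L.el_comm v e0

theorem t_z : Commute L.S.t L.S.z := mem_centralizer_singleton_iff.1 (L.S.P_le L.S.t_mem)

theorem P_z {p : G} (hp : p ∈ L.S.P) : Commute p L.S.z := mem_centralizer_singleton_iff.1 (L.S.P_le hp)

theorem P'_z {p : G} (hp : p ∈ L.S.P') : Commute p L.S.z := mem_centralizer_singleton_iff.1 (L.S.P'_le hp)

theorem Q2_z {q : G} (hq : q ∈ L.S.Q2) : Commute q L.S.z :=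
  mem_centralizer_singleton_iff.1 (L.S.le (L.S.le2 hq))

theorem Q2_t {q : G} (hq : q ∈ L.S.Q2) : Commute q L.S.t := (L.S.P_Q2 _ L.S.t_mem q hq).symm

theorem P'_t {p : G} (hp : p ∈ L.S.P') : Commute p L.S.t := (L.S.PP'_comm _ L.S.t_mem p hp).symm

theorem Kt_el {k : G} (hk : k ∈ L.Kt) (v : V4) : Commute k (L.el v) := (L.mem_K k).1 (L.mem_Kt.1 hk).1 v

theorem Kt_z {k : G} (hk : k ∈ L.Kt) : Commute k L.S.z := L.z_eq ▸ L.Kt_el hk e0

/-- The centraliser of the central element and of two vectors spanning its tangent plane. -/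
theorem cent_E {g : G} (hz : Commute g L.S.z) (h1 : Commute g (L.el e1)) (h2 : Commute g (L.el e2)) : g ∈ L.K := by
  have hc : ⁅g, L.el e3⁆ ∈ L.S.Q := L.S.comm_of_fix L.e1_mem L.e2_mem L.e1_notZ L.e2_notZ hz
    (by rw [commutatorElement_eq_one_iff_mul_comm.2 h1.eq]; exact one_mem _)
    (by rw [commutatorElement_eq_one_iff_mul_comm.2 h2.eq]; exact one_mem _) (L.el_z e3)
    (by rw [commutatorElement_eq_one_iff_mul_comm.2 (L.el_comm e3 e1).eq]; exact one_mem _)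
    (by rw [commutatorElement_eq_one_iff_mul_comm.2 (L.el_comm e3 e2).eq]; exact one_mem _)
  have hg0 : Commute g (L.el e0) := L.z_commute.2 hz
  have key := ((Transfer.base L.jd).normalise_iff hg0).2 ⟨_, hc, 1, one_ne_zero, by
    rw [pw_one, commutatorElement_def, inv_mul_cancel_right]⟩
  have hN : g ∈ L.NJ := L.mem_NJ_of fun x => by
    obtain ⟨y, hy⟩ := (Transfer.mem_J_iff L.jd).1 (key _ ((Transfer.mem_J_iff L.jd).2 ⟨x, rfl⟩))
    exact ⟨y, hy.symm⟩
  obtain ⟨M, hM, hMv⟩ := L.NJ_act hN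
  have h0' := (Act.commute_iff hMv).1 hg0
  have h1' := (Act.commute_iff hMv).1 h1
  have h2' := (Act.commute_iff hMv).1 h2
  have h3' : M.mulVec e3 = e3 := by
    have hq : qf (M.mulVec e3) = 0 := by rw [hM]; decide
    have hb0 : bf (M.mulVec e3) e0 = 1 := by
      conv_lhs => rw [← h0', hM.bf_eq]
      decide
    have hb1 : bf (M.mulVec e3) e1 = 0 := by
      conv_lhs => rw [← h1', hM.bf_eq]
      decide
    have hb2 : bf (M.mulVec e3) e2 = 0 := by
      conv_lhs => rw [← h2', hM.bf_eq]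
      decide
    exact (by decide +kernel : ∀ w : V4, qf w = 0 → bf w e0 = 1 → bf w e1 = 0 → bf w e2 = 0 → w = e3) _
      hq hb0 hb1 hb2
  refine Act.mem_K (L := L) fun v => ?_
  rw [hMv, ext_basis (A := M) (B := 1) (by rw [h0', Matrix.one_mulVec]) (by rw [h1', Matrix.one_mulVec])
    (by rw [h2', Matrix.one_mulVec]) (by rw [h3', Matrix.one_mulVec])]

/-- The centraliser of a singular vector and of two orthogonal exterior ones orthogonal to it. -/
theorem cent_perp {g : G} {u a b : V4} (hu0 : u ≠ 0) (hu : qf u = 0) (hqa : qf a = -1) (hqb : qf b = -1)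
    (hab : bf a b = 0) (hua : bf a u = 0) (hub : bf b u = 0) (h0 : Commute g (L.el u)) (h1 : Commute g (L.el a))
    (h2 : Commute g (L.el b)) : g ∈ L.K := by
  obtain ⟨M, hM, hMu⟩ := exists_rot_to hu0 hu
  obtain ⟨h, hh⟩ := L.jd.rot M hM
  have hi : Iso M := hM.qf_eq
  have c0 := h0.conj h
  have c1 := h1.conj h
  have c2 := h2.conj h
  rw [hh] at c0 c1 c2
  rw [hMu] at c0
  have h3 : ∀ x : V4, bf x u = 0 → M.mulVec x 3 = 0 := fun x hx => by
    rw [← bf_e0_right (M.mulVec x), ← hMu, hi.bf_eq, hx]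
  obtain ⟨i, j, k, p, q, r, he1, he2⟩ := tangent_span _ _ (h3 a hua) (h3 b hub) (by rw [hi, hqa])
    (by rw [hi, hqb]) (by rw [hi.bf_eq, hab])
  have hx : ∀ i j k : ZMod 3, Commute (h * g * h⁻¹) (L.el (i • e0 + j • M.mulVec a + k • M.mulVec b)) :=
    fun i j k => by
    rw [L.el_add, L.el_add, L.el_smul, L.el_smul, L.el_smul]
    exact ((c0.pow_right _).mul_right (c1.pow_right _)).mul_right (c2.pow_right _)
  have hK := L.cent_E (L.z_commute.1 c0) (he1 ▸ hx i j k) (he2 ▸ hx p q r)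
  have := L.conj_K (L.NJ.inv_mem (Act.mem_NJ (L := L) hh)) hK
  rwa [show h⁻¹ * (h * g * h⁻¹) * h⁻¹⁻¹ = g by group] at this

/-! ### The factors -/

theorem el_P {v : V4} (h1 : v 1 = 0) (h3 : v 3 = 0) {p : G} (hp : p ∈ L.S.P) : Commute p (L.el v) := by
  rw [span_plane v h1 h3, L.el_add, L.el_smul, L.el_smul]
  exact ((L.z_commute.2 (L.P_z hp)).pow_right _).mul_right ((L.S.P_Q2 p hp _ L.e2_mem).pow_right _)

theorem P'_fix_axis {p : G} (hp : p ∈ L.S.P') (h : ⁅p, L.el e2⁆ ∈ zpowers L.S.z) : p = 1 := by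
  by_contra hne
  have hpz := L.P'_z hp
  let A : Subgroup G :=
    { carrier := {x | x ∈ L.S.P' ∧ ⁅x, L.el e2⁆ ∈ zpowers L.S.z}
      one_mem' := ⟨one_mem _, by rw [commutatorElement_one_left]; exact one_mem _⟩
      mul_mem' := fun {x y} hx hy => ⟨mul_mem hx.1 hy.1, by
        rw [show ⁅x * y, L.el e2⁆ = x * ⁅y, L.el e2⁆ * x⁻¹ * ⁅x, L.el e2⁆ by
          simp only [commutatorElement_def]; group, (Pt.fix_Z (L.P'_z hx.1) hy.2).eq, mul_inv_cancel_right]
        exact mul_mem hy.2 hx.2⟩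
      inv_mem' := fun {x} hx => ⟨inv_mem hx.1, by
        rw [show ⁅x⁻¹, L.el e2⁆ = x⁻¹ * ⁅x, L.el e2⁆⁻¹ * x by simp only [commutatorElement_def]; group,
          (Pt.fix_Z (L.P'_z hx.1).inv_left (inv_mem hx.2)).eq, inv_mul_cancel_right]
        exact inv_mem hx.2⟩ }
  have hpA : p ∈ A := ⟨hp, h⟩
  have hord : orderOf p ∣ 2 ^ 3 := orderOf_dvd_of_pow_eq_one (by
    have := congrArg Subtype.val (pow_card_eq_one' (x := (⟨p, hp⟩ : L.S.P')))
    rwa [L.S.card_P'] at this)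
  obtain ⟨i, -, hi⟩ := (Nat.dvd_prime_pow Nat.prime_two).1 hord
  obtain ⟨j, rfl⟩ : ∃ j, i = j + 1 := Nat.exists_eq_succ_of_ne_zero fun h0 => hne (by
    rwa [h0, pow_zero, orderOf_eq_one_iff] at hi)
  set x := p ^ 2 ^ j with hx
  have hxA : x ∈ A := pow_mem hpA _
  have hxx : x * x = 1 := by rw [hx, ← pow_add, ← two_mul, ← pow_succ', ← hi, pow_orderOf_eq_one]
  rcases L.S.P'_invol x hxA.1 hxx with e | e
  · have := orderOf_dvd_of_pow_eq_one e
    rw [hi] at this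
    have := (Nat.pow_dvd_pow_iff_le_right (by norm_num : 1 < 2)).1 this
    omega
  · obtain ⟨c, hc⟩ := L.exists_line (e ▸ hxA.2)
    rw [commutatorElement_def, L.t'_act, ← L.el_neg, ← L.el_add] at hc
    exact (line_e0 c).2.1 ((L.el_inj hc).symm.trans (by decide +kernel))

/-- The elements of the second factor centralising `e2`. -/
theorem Q2_fix {q : G} (hq : q ∈ L.S.Q2) (h : Commute q (L.el e2)) : ∃ w, w 1 = 0 ∧ w 3 = 0 ∧ q = L.el w := by
  have hK := L.cent_E (L.Q2_z hq) (L.S.comm12 _ L.e1_mem q hq).symm h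
  obtain ⟨w, rfl⟩ := L.K_Q q hK (L.S.le2 hq)
  exact ⟨w, L.t_commute_el.1 (L.Q2_t hq).symm, (L.jd.Q_J w).1 (L.S.le2 hq), rfl⟩

/-- The preimage of the two quaternion groups: a conjugate of a member stays there. -/
theorem mem_PPQ {x : G} (hx : x ∈ L.S.P ⊔ L.S.P' ⊔ L.S.Q) :
    ∃ p ∈ L.S.P, ∃ p' ∈ L.S.P', ∃ q ∈ L.S.Q, x = p * p' * q := by
  have hn : L.S.P ⊔ L.S.P' ≤ normalizer (L.S.Q : Set G) := sup_le
    (fun p hp => Subgroup.mem_normalizer_fintype fun q hq => L.S.normal' (L.P_z hp) hq)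
    (fun p hp => Subgroup.mem_normalizer_fintype fun q hq => L.S.normal' (L.P'_z hp) hq)
  rw [← SetLike.mem_coe, coe_mul_of_left_le_normalizer_right _ _ hn] at hx
  obtain ⟨a, ha, q, hq, rfl⟩ := Set.mem_mul.1 hx
  have hn' : L.S.P ≤ normalizer (L.S.P' : Set G) := fun p hp => Subgroup.mem_normalizer_fintype fun y hy => by
    rw [(L.S.PP'_comm p hp y hy).eq, mul_inv_cancel_right]
    exact hy
  rw [SetLike.mem_coe, ← SetLike.mem_coe, coe_mul_of_left_le_normalizer_right _ _ hn'] at ha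
  obtain ⟨p, hp, p', hp', rfl⟩ := Set.mem_mul.1 ha
  exact ⟨p, hp, p', hp', q, hq, rfl⟩

theorem P_pow8 {p : G} (hp : p ∈ L.S.P) : p ^ 8 = 1 := L.S.P_pow hp

theorem P'_pow8 {p : G} (hp : p ∈ L.S.P') : p ^ 8 = 1 := by
  have := congrArg Subtype.val (pow_card_eq_one' (x := (⟨p, hp⟩ : L.S.P')))
  rwa [L.S.card_P'] at this

/-- An element of order three there lies in the core. -/
theorem PPQ_three {x : G} (hx : x ∈ L.S.P ⊔ L.S.P' ⊔ L.S.Q) (h3 : x ^ 3 = 1) : x ∈ L.S.Q := by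
  obtain ⟨p, hp, p', hp', q, hq, rfl⟩ := L.mem_PPQ hx
  set a := p * p' with ha
  have haz : Commute a L.S.z := (L.P_z hp).mul_left (L.P'_z hp')
  have key : ∀ n : ℕ, (a ^ n)⁻¹ * (a * q) ^ n ∈ L.S.Q := fun n => by
    induction n with
    | zero => simp
    | succ n ih =>
      rw [show (a ^ (n + 1))⁻¹ * (a * q) ^ (n + 1) = a⁻¹ * ((a ^ n)⁻¹ * (a * q) ^ n) * a⁻¹⁻¹ * q by
        rw [pow_succ a, pow_succ (a * q)]; group]
      exact mul_mem (L.S.normal' haz.inv_left ih) hq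
  have h8 := key 8
  rw [ha, (L.S.PP'_comm p hp p' hp').mul_pow, L.P_pow8 hp, L.P'_pow8 hp', one_mul, inv_one, one_mul] at h8
  rw [show (p * p' * q) ^ 8 = ((p * p' * q) ^ 3) ^ 3 * (p * p' * q)⁻¹ by
    rw [← pow_mul, eq_mul_inv_iff_mul_eq, ← pow_succ], h3, one_pow, one_mul] at h8
  exact inv_mem_iff.1 h8

/-- The centraliser of the central element, of the involution and of `e2`. -/
theorem cent_ze2 {g : G} (hz : Commute g L.S.z) (ht : Commute g L.S.t) (h2 : Commute g (L.el e2)) :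
    ∃ p ∈ L.S.P, ∃ k ∈ L.Kt, g = p * k := by
  obtain ⟨q, hq, p, hp, p', hp', k, hk, rfl⟩ := L.centT g hz ht
  have hk2 := L.Kt_el hk e2
  set y := p' * L.el e2 * p'⁻¹ with hy
  have hyQ : y ∈ L.S.Q2 := (L.S.pres_P' hp').2.2 _ L.e2_mem
  have e : y = q⁻¹ * L.el e2 * q := by
    have h := mul_inv_eq_iff_eq_mul.2 h2.eq
    calc y = q⁻¹ * (q * (p * y * p⁻¹) * q⁻¹) * q := by
          rw [(L.S.P_Q2 p hp y hyQ).eq, mul_inv_cancel_right]; group
      _ = q⁻¹ * (q * p * p' * (k * L.el e2 * k⁻¹) * (q * p * p')⁻¹) * q := by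
          rw [hk2.eq, mul_inv_cancel_right, hy]; group
      _ = q⁻¹ * (q * p * p' * k * L.el e2 * (q * p * p' * k)⁻¹) * q := by group
      _ = q⁻¹ * L.el e2 * q := by rw [h]
  have hp1 : p' = 1 := L.P'_fix_axis hp' (by
    rw [commutatorElement_def, ← hy, e]
    have := L.S.core.comm q⁻¹ (inv_mem (L.S.le2 hq)) _ (L.S.le2 L.e2_mem)
    rwa [inv_inv] at this)
  subst hp1
  rw [hy, one_mul, inv_one, mul_one] at e
  obtain ⟨w, hw1, hw3, rfl⟩ := L.Q2_fix hq (by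
    show q * L.el e2 = L.el e2 * q
    calc q * L.el e2 = q * (q⁻¹ * L.el e2 * q) := by rw [← e]
      _ = L.el e2 * q := by group)
  exact ⟨p, hp, L.el w * k, mul_mem (L.el_mem_Kt hw1) hk, by
    rw [mul_one, ← (L.el_P hw1 hw3 hp).eq, mul_assoc]⟩

/-- The quaternion group by its properties. -/
theorem mem_P {x : G} (hz : Commute x L.S.z) (ht : Commute x L.S.t) (h2 : Commute x (L.el e2))
    (hmem : x ∈ L.S.P ⊔ L.S.P' ⊔ L.S.Q) (h8 : x ^ 8 = 1) : x ∈ L.S.P := by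
  obtain ⟨p, hp, k, hk, rfl⟩ := L.cent_ze2 hz ht h2
  have hkQ : k ∈ L.S.Q := L.PPQ_three (by
    rw [show k = p⁻¹ * (p * k) by group]
    exact mul_mem (inv_mem (mem_sup_left (mem_sup_left hp))) hmem) (L.Kt_cube hk)
  obtain ⟨w, rfl⟩ := L.K_Q k (L.mem_Kt.1 hk).1 hkQ
  have hc := L.el_P (L.el_mem_Kt_iff.1 hk) ((L.jd.Q_J w).1 hkQ) hp
  rw [hc.mul_pow, L.P_pow8 hp, one_mul] at h8
  have hw : L.el w = 1 := by
    calc L.el w = (L.el w ^ 3) ^ 3 * (L.el w ^ 8)⁻¹ := by group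
      _ = 1 := by rw [L.el_cube, h8]; group
  rw [hw, mul_one]
  exact hp

/-- The stabiliser of the point in the plane normalises the quaternion group. -/
theorem P_conj {g : G} (ht : Commute g L.S.t) (hg : g ∈ L.NJ) (hz : g * L.S.z * g⁻¹ ∈ zpowers L.S.z) {p : G}
    (hp : p ∈ L.S.P) : g * p * g⁻¹ ∈ L.S.P := by
  obtain ⟨c, hc⟩ := L.exists_line hz
  have hgz : g⁻¹ * L.S.z * g⁻¹⁻¹ ∈ zpowers L.S.z := by
    rcases L.pt.zpow_cases hz with e | e | e
    · exfalso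
      exact L.pt.z_ne (mul_eq_left.1 (mul_inv_eq_one.1 e))
    · rw [show g⁻¹ * L.S.z * g⁻¹⁻¹ = g⁻¹ * (g * L.S.z * g⁻¹) * g by rw [e]; group]
      rw [show g⁻¹ * (g * L.S.z * g⁻¹) * g = L.S.z by group]
      exact mem_zpowers _
    · rw [show g⁻¹ * L.S.z * g⁻¹⁻¹ = (g⁻¹ * (g * L.S.z * g⁻¹) * g)⁻¹ by rw [e]; group,
        show g⁻¹ * (g * L.S.z * g⁻¹) * g = L.S.z by group]
      exact inv_mem (mem_zpowers _)
  refine L.mem_P ?_ ?_ ?_ (L.S.PP'_normal g hz p (mem_sup_left (mem_sup_left hp))) (by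
    rw [conj_pow, L.P_pow8 hp, mul_one, mul_inv_cancel])
  · obtain ⟨j, hj⟩ := L.exists_line hgz
    refine mul_inv_eq_iff_eq_mul.1 ?_
    rw [show g * p * g⁻¹ * L.S.z * (g * p * g⁻¹)⁻¹ = g * (p * (g⁻¹ * L.S.z * g⁻¹⁻¹) * p⁻¹) * g⁻¹ by group, hj,
      (L.el_P (line_e0 j).2.2.1 (line_e0 j).2.2.2.1 hp).eq, mul_inv_cancel_right, ← hj]
    group
  · have h : Commute p L.S.t := by
      by_cases h2 : p * p = 1
      · rcases L.S.P_invol p hp h2 with rfl | rfl
        · exact Commute.one_left _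
        · exact Commute.refl _
      · have hp4 : (p ^ 4) * (p ^ 4) = 1 := by rw [← pow_add, L.P_pow8 hp]
        rcases L.S.P_invol _ (pow_mem hp 4) hp4 with e | e
        · rcases L.S.P_invol _ (pow_mem hp 2) (by rw [← pow_add]; exact e) with e2 | e2
          · exact absurd (pow_two p ▸ e2) h2
          · rw [← e2]; exact Commute.self_pow p 2
        · rw [← e]; exact Commute.self_pow p 4
    have h' := h.conj g
    rwa [ht.eq, mul_inv_cancel_right] at h'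
  · obtain ⟨M, -, hMv⟩ := L.NJ_act (L.NJ.inv_mem hg)
    have hu1 : M.mulVec e2 1 = 0 := plane_img (L.act_refl ht.inv_left hMv) (by decide)
    have hu3 : M.mulVec e2 3 = 0 := (L.jd.Q_J _).1 (by
      rw [← hMv]
      exact L.S.normal g⁻¹ hgz _ ((L.jd.Q_J e2).2 (by decide)))
    refine mul_inv_eq_iff_eq_mul.1 ?_
    rw [show g * p * g⁻¹ * L.el e2 * (g * p * g⁻¹)⁻¹ = g * (p * (g⁻¹ * L.el e2 * g⁻¹⁻¹) * p⁻¹) * g⁻¹ by group,
      hMv, (L.el_P hu1 hu3 hp).eq, mul_inv_cancel_right, ← hMv]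
    group

/-! ### The translations -/

theorem Q2_mem_NJ {q : G} (hq : q ∈ L.S.Q2) : q ∈ L.NJ := by
  have hq0 : Commute q (L.el e0) := L.z_commute.2 (L.Q2_z hq)
  have key := ((Transfer.base L.jd).normalise_iff hq0).2 ⟨⁅q, L.el e3⁆, by
    rw [commutatorElement_def, show q * L.el e3 * q⁻¹ * (L.el e3)⁻¹ = q * (L.el e3 * q⁻¹ * (L.el e3)⁻¹) by group]
    exact mul_mem (L.S.le2 hq) (L.S.normal' (L.el_z e3) (inv_mem (L.S.le2 hq))), 1, one_ne_zero, by
    rw [pw_one, commutatorElement_def, inv_mul_cancel_right]⟩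
  exact L.mem_NJ_of fun x => by
    obtain ⟨y, hy⟩ := (Transfer.mem_J_iff L.jd).1 (key _ ((Transfer.mem_J_iff L.jd).2 ⟨x, rfl⟩))
    exact ⟨y, hy.symm⟩

theorem Q2_act {q : G} (hq : q ∈ L.S.Q2) : ∃ b : ZMod 3, L.Act q (trM 0 b) := by
  obtain ⟨M, hM, hMv⟩ := L.NJ_act (L.Q2_mem_NJ hq)
  have hMv' : L.Act q M := hMv
  have h0 : M.mulVec e0 = e0 := hMv'.commute_iff.1 (L.z_commute.2 (L.Q2_z hq))
  have h1 : M.mulVec e1 = e1 := hMv'.commute_iff.1 (L.S.comm12 _ L.e1_mem q hq).symm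
  obtain ⟨j, hj⟩ := L.exists_line (L.S.core.comm q (L.S.le2 hq) _ (L.S.le2 L.e2_mem))
  have h2 : M.mulVec e2 = j • e0 + e2 := L.el_inj (by
    rw [← hMv, L.el_add, ← hj]; group)
  have hq3 : qf (M.mulVec e3) = 0 := by rw [hM]; decide
  have hb0 : bf (M.mulVec e3) e0 = 1 := by
    conv_lhs => rw [← h0, hM.bf_eq]
    decide
  have hb1 : bf (M.mulVec e3) e1 = 0 := by
    conv_lhs => rw [← h1, hM.bf_eq]
    decide
  refine ⟨M.mulVec e3 2, fun v => ?_⟩
  rw [hMv]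
  exact congrArg (fun N => L.el (Matrix.mulVec N v)) (eq_trM (M := M) (Or.inl hM) h0 (j := 0) (k := j) (a := 0)
    (by rw [h1, zero_smul, zero_add]) h2 (tr_image _ hq3 hb0 hb1))

theorem Q2_translation (b : ZMod 3) : ∃ q ∈ L.S.Q2, L.Act q (trM 0 b) := by
  obtain ⟨q, hq, c, hc, hqa⟩ : ∃ q ∈ L.S.Q2, ∃ c : ZMod 3, c ≠ 0 ∧ L.Act q (trM 0 c) := by
    by_contra hcon
    push Not at hcon
    refine L.e2_notZ ((L.S.core.centre _ (L.S.le2 L.e2_mem)).1 fun y hy => ?_)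
    obtain ⟨a, ha, q, hq, rfl⟩ := L.S.exists_mul hy L.S.sup_eq
    obtain ⟨c, hc⟩ := L.Q2_act hq
    have hc0 : c = 0 := by_contra fun h => hcon q hq c h hc
    subst hc0
    have h2 : Commute q (L.el e2) := hc.commute_iff.2 (by decide +kernel)
    exact ((L.S.comm12 a ha _ L.e2_mem).symm.mul_right h2.symm).eq
  rcases (tr_e2 c hc).2 b with rfl | rfl | rfl
  · exact ⟨1, one_mem _, fun v => by
      rw [show trM (0 : ZMod 3) 0 = 1 by decide +kernel, Matrix.one_mulVec]; group⟩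
  · exact ⟨q, hq, hqa⟩
  · refine ⟨q⁻¹, inv_mem hq, fun v => ?_⟩
    have := hqa.inv_apply ((trM 0 (-c)).mulVec v)
    rw [tr_inverse] at this
    rw [inv_inv, this]

end Loc

end Cfsg.Agent.U62Three
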