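import Cfsg.Agent.Lib.U62Three.W.Point
import Cfsg.Agent.Lib.LargeExtra.Basic
import Mathlib.GroupTheory.NoncommPiCoprod

/-!
Once the four quaternion groups commute pairwise they generate an extraspecial group of order 512, normalised by the
stabiliser of the plane in the centraliser of the involution; an element of the fixed part moving all four groups
fixes only the centre.
-/

set_option autoImplicit false
set_option maxRecDepth 20000
set_option linter.style.haveILetI false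
set_option linter.unusedSectionVars false

namespace Cfsg.Agent.U62Three

open Subgroup
open Co2Three (V4 qf bf e0 e1 e2 e3 refl1)
open scoped commutatorElement

namespace Loc

variable {G : Type*} [Group G] [Finite G] (L : Loc G)

/-- The four groups commute pairwise. -/
abbrev PairComm : Prop := Pairwise fun i j : Fin 4 => ∀ x y : G, x ∈ L.P4 i → y ∈ L.P4 j → Commute x y

/-- The families. -/
abbrev PP := (i : Fin 4) → ↥(L.P4 i)

/-- The signaliser. -/
noncomputable def Wg : Subgroup G := ⨆ i, L.P4 i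

theorem P4_le_W (i : Fin 4) : L.P4 i ≤ L.Wg := le_iSup L.P4 i

theorem P_le_W : L.S.P ≤ L.Wg := L.P4_zero ▸ L.P4_le_W 0

theorem W_le : L.Wg ≤ centralizer {L.S.t} := iSup_le fun _ _ hx => L.mem_Ct.2 (L.P4_le_Ct hx)

theorem W_t {x : G} (hx : x ∈ L.Wg) : Commute x L.S.t := L.mem_Ct.1 (L.W_le hx)

theorem t_mem_W : L.S.t ∈ L.Wg := L.P4_le_W 0 (L.t_mem_P4 0)

theorem mem_norm_W {g : G} (h : ∀ i, ∀ x ∈ L.P4 i, g * x * g⁻¹ ∈ L.Wg) : g ∈ normalizer (L.Wg : Set G) := by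
  refine Subgroup.mem_normalizer_fintype fun x hx => ?_
  have hle : L.Wg ≤ L.Wg.comap (MulAut.conj g).toMonoidHom := iSup_le fun i y hy => mem_comap.2 (h i y hy)
  exact hle hx

/-- The stabiliser of the plane in the centraliser of the involution normalises the signaliser. -/
theorem NJ_norm_W {g : G} (hgt : Commute g L.S.t) (hg : g ∈ L.NJ) : g ∈ normalizer (L.Wg : Set G) := by
  refine L.mem_norm_W fun i x hx => ?_
  obtain ⟨M, hM, hMv⟩ := L.NJ_act hg
  obtain ⟨hne, hq, h1⟩ := cp_facts i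
  obtain ⟨j, hj⟩ := plane_sing (M.mulVec (cp i)) (plane_img (L.act_refl hgt hMv) h1)
    (fun e => hne (hM.injective (e.trans (Matrix.mulVec_zero M).symm))) (by rw [hM, hq])
  refine L.P4_le_W j (L.P4_map hgt hg ?_ hx)
  rcases hj with e | e
  · exact Or.inl (by rw [hMv, e])
  · exact Or.inr (by rw [hMv, e])

theorem Kt_norm_W {y : G} (hy : y ∈ L.Kt) : y ∈ normalizer (L.Wg : Set G) :=
  L.NJ_norm_W (L.mem_Kt.1 hy).2 (L.K_le_NJ (L.mem_Kt.1 hy).1)

/-- The group of order two. -/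
abbrev Zt : Subgroup G := zpowers L.S.t

theorem mem_Zt {x : G} : x ∈ L.Zt ↔ x = 1 ∨ x = L.S.t := by
  constructor
  · intro h
    obtain ⟨n, rfl⟩ := (isOfFinOrder_of_finite _).mem_powers_iff_mem_zpowers.2 h
    show L.S.t ^ n = 1 ∨ L.S.t ^ n = L.S.t
    rcases Nat.even_or_odd' n with ⟨k, rfl | rfl⟩
    · left; rw [pow_mul, pow_two, L.S.t_sq, one_pow]
    · right; rw [pow_succ, pow_mul, pow_two, L.S.t_sq, one_pow, one_mul]
  · rintro (rfl | rfl)
    · exact one_mem _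
    · exact mem_zpowers _

theorem P4_sq {i : Fin 4} {x : G} (hx : x ∈ L.P4 i) : x * x ∈ L.Zt := by
  refine L.mem_Zt.2 (L.P4_invol ((L.P4 i).mul_mem hx hx) ?_)
  rw [← L.P4_four hx, pow_succ, pow_three]
  group

/-- An element of the fixed part moving a group moves every element outside its centre, also modulo it. -/
theorem move_Zt {i : Fin 4} {y x : G} (hy : y ∈ L.Kt) (hm : ∃ q ∈ L.P4 i, ¬ Commute q y) (hx : x ∈ L.P4 i)
    (hz : x⁻¹ * (y * x * y⁻¹) ∈ L.Zt) : x ∈ L.Zt := by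
  have ht' := L.t_conj (L.mem_Kt.1 hy).2
  rcases L.mem_Zt.1 hz with e | e
  · by_contra hne
    rw [L.mem_Zt, not_or] at hne
    obtain ⟨q, hq, hqy⟩ := hm
    exact hqy (L.P4_fix hy hx (mul_inv_eq_iff_eq_mul.1 (inv_mul_eq_one.1 e).symm).symm hne.1 hne.2 q hq)
  · exfalso
    have e' : y * x * y⁻¹ = x * L.S.t := inv_mul_eq_iff_eq_mul.1 e
    have e2 : y * (y * x * y⁻¹) * y⁻¹ = x := by
      rw [e', show y * (x * L.S.t) * y⁻¹ = (y * x * y⁻¹) * (y * L.S.t * y⁻¹) by group, e', ht', mul_assoc, L.S.t_sq,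
        mul_one]
    have h1 : x = x * L.S.t := by
      calc x = y ^ 3 * x * (y ^ 3)⁻¹ := by rw [L.Kt_cube hy]; group
        _ = y * (y * (y * x * y⁻¹) * y⁻¹) * y⁻¹ := by rw [pow_three]; group
        _ = y * x * y⁻¹ := by rw [e2]
        _ = x * L.S.t := e'
    exact L.S.t_ne (mul_eq_left.1 h1.symm)

theorem cp_moves {j k : Fin 4} (hjk : j ≠ k) : ∃ q ∈ L.P4 k, ¬ Commute q (L.el (cp j)) := by
  by_contra h
  push Not at h
  have hle : L.P4 k ≤ L.Zt := fun x hx =>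
    L.mem_Zt.2 (L.P4_move hx (cp_facts j).2.2 (fun e => hjk ((cp_bf j k).1 e)) (h x hx))
  have := card_le_of_le hle
  rw [L.P4_card, Nat.card_zpowers,
    orderOf_eq_prime (show L.S.t ^ 2 = 1 by rw [pow_two, L.S.t_sq]) L.S.t_ne] at this
  norm_num at this

variable (hpc : L.PairComm)

/-- Their product. -/
noncomputable def Phi : L.PP →* G := Subgroup.noncommPiCoprod hpc

theorem Phi_single (i : Fin 4) (x : L.P4 i) : L.Phi hpc (Pi.mulSingle i x) = x :=
  Subgroup.noncommPiCoprod_mulSingle i x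

theorem Phi_range : (L.Phi hpc).range = L.Wg := Subgroup.noncommPiCoprod_range

include hpc in
theorem W_dec {x : G} (hx : x ∈ L.Wg) : ∃ p, L.Phi hpc p = x := by
  rw [← L.Phi_range hpc] at hx; exact hx

theorem Phi_mem (p : L.PP) : L.Phi hpc p ∈ L.Wg := by
  rw [← L.Phi_range hpc]; exact ⟨p, rfl⟩

theorem Phi_Zt {p : L.PP} (h : ∀ i, (p i : G) ∈ L.Zt) : L.Phi hpc p ∈ L.Zt := by
  rw [Phi, Subgroup.noncommPiCoprod_apply]
  exact Subgroup.noncommProd_mem _ _ fun i _ => h i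

/-- Conjugation of the families by an element of the fixed part. -/
noncomputable def conjP {y : G} (hy : y ∈ L.Kt) : L.PP →* L.PP where
  toFun p i := ⟨y * p i * y⁻¹, L.Kt_P4 hy (p i).2⟩
  map_one' := funext fun i => Subtype.ext (by simp)
  map_mul' p q := funext fun i => Subtype.ext (by simp [mul_assoc])

theorem Phi_conjP {y : G} (hy : y ∈ L.Kt) (p : L.PP) :
    L.Phi hpc (L.conjP hy p) = y * L.Phi hpc p * y⁻¹ := by
  have key : (L.Phi hpc).comp (L.conjP hy) = (MulAut.conj y).toMonoidHom.comp (L.Phi hpc) := by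
    refine MonoidHom.ext fun q => ?_
    refine Subgroup.pi_mem_of_mulSingle_mem (H := MonoidHom.eqLocus _ _) q fun i => ?_
    show (L.Phi hpc).comp (L.conjP hy) (Pi.mulSingle i (q i)) =
      (MulAut.conj y).toMonoidHom.comp (L.Phi hpc) (Pi.mulSingle i (q i))
    generalize q i = x
    have e : L.conjP hy (Pi.mulSingle i x) =
        Pi.mulSingle i (⟨y * x * y⁻¹, L.Kt_P4 hy x.2⟩ : L.P4 i) := by
      funext k
      by_cases hk : k = i
      · subst hk
        rw [Pi.mulSingle_eq_same]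
        refine Subtype.ext ?_
        show y * ((Pi.mulSingle k x : L.PP) k : G) * y⁻¹ = _
        rw [Pi.mulSingle_eq_same]
      · rw [Pi.mulSingle_eq_of_ne hk]
        refine Subtype.ext ?_
        show y * ((Pi.mulSingle i x : L.PP) k : G) * y⁻¹ = _
        rw [Pi.mulSingle_eq_of_ne hk]
        simp
    rw [MonoidHom.comp_apply, MonoidHom.comp_apply, e, L.Phi_single, L.Phi_single]
    rfl
  exact DFunLike.congr_fun key p

/-- The displacement by an element of the fixed part. -/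
noncomputable def disp {y : G} (hy : y ∈ L.Kt) (p : L.PP) : L.PP := p⁻¹ * L.conjP hy p

theorem Phi_disp {y : G} (hy : y ∈ L.Kt) {p : L.PP} (h : Commute y (L.Phi hpc p)) :
    L.Phi hpc (L.disp hy p) = 1 := by
  rw [disp, map_mul, map_inv, L.Phi_conjP, h.eq, mul_inv_cancel_right, inv_mul_cancel]

theorem Zt_fix {y x : G} (hy : y ∈ L.Kt) (hx : x ∈ L.Zt) : Commute y x := by
  rcases L.mem_Zt.1 hx with e | e <;> rw [e]
  · exact Commute.one_right _
  · exact (L.mem_Kt.1 hy).2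

theorem disp_coe {y : G} (hy : y ∈ L.Kt) (p : L.PP) (k : Fin 4) :
    ((L.disp hy p) k : G) = (p k : G)⁻¹ * (y * (p k : G) * y⁻¹) := rfl

theorem disp_self (j : Fin 4) (p : L.PP) : ((L.disp (L.el_mem_Kt (cp_facts j).2.2) p) j : G) = 1 := by
  have hc : Commute (p j : G) (L.el (cp j)) := L.P4_at (p j).2
  rw [disp_coe, hc.symm.eq, mul_inv_cancel_right, inv_mul_cancel]

theorem disp_one {y : G} (hy : y ∈ L.Kt) {k : Fin 4} {p : L.PP} (h : (p k : G) = 1) :
    ((L.disp hy p) k : G) = 1 := by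
  rw [disp_coe, h]; group

theorem disp_out {y : G} (hy : y ∈ L.Kt) {k : Fin 4} (hm : ∃ q ∈ L.P4 k, ¬ Commute q y) {p : L.PP}
    (h : (p k : G) ∉ L.Zt) : ((L.disp hy p) k : G) ∉ L.Zt :=
  fun hz => h (L.move_Zt hy hm (p k).2 (by rwa [disp_coe] at hz))

include hpc in
theorem Phi_mem_Zt {p : L.PP} (h : L.Phi hpc p ∈ L.Zt) (i : Fin 4) : (p i : G) ∈ L.Zt := by
  by_contra hne
  obtain ⟨a, b, c, ha, hb, hc, hall⟩ : ∃ a b c : Fin 4, a ≠ i ∧ b ≠ i ∧ c ≠ i ∧
      ∀ k, k = i ∨ k = a ∨ k = b ∨ k = c :=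
    (show ∀ i : Fin 4, ∃ a b c : Fin 4, a ≠ i ∧ b ≠ i ∧ c ≠ i ∧ ∀ k, k = i ∨ k = a ∨ k = b ∨ k = c by decide) i
  have hK : ∀ j, L.el (cp j) ∈ L.Kt := fun j => L.el_mem_Kt (cp_facts j).2.2
  set q := L.disp (hK c) (L.disp (hK b) (L.disp (hK a) p)) with hq
  have hq1 : L.Phi hpc q = 1 := by
    refine L.Phi_disp hpc _ ?_
    rw [L.Phi_disp hpc _ (p := L.disp (hK a) p) (by
      rw [L.Phi_disp hpc _ (L.Zt_fix (hK a) h)]; exact Commute.one_right _)]
    exact Commute.one_right _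
  have hqi : (q i : G) ∉ L.Zt :=
    L.disp_out _ (L.cp_moves hc) (L.disp_out _ (L.cp_moves hb) (L.disp_out _ (L.cp_moves ha) hne))
  have hqs : q = Pi.mulSingle i (q i) := by
    funext k
    by_cases hk : k = i
    · subst hk; rw [Pi.mulSingle_eq_same]
    · rw [Pi.mulSingle_eq_of_ne hk]
      refine Subtype.ext ?_
      rw [Subgroup.coe_one]
      rcases hall k with e | e | e | e
      · exact absurd e hk
      · subst e; exact L.disp_one _ (L.disp_one _ (L.disp_self _ _))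
      · subst e; exact L.disp_one _ (L.disp_self _ _)
      · subst e; exact L.disp_self _ _
  rw [hqs, L.Phi_single] at hq1
  exact hqi (hq1 ▸ one_mem _)

include hpc in
theorem W_sq {x : G} (hx : x ∈ L.Wg) : x * x ∈ L.Zt := by
  obtain ⟨p, rfl⟩ := L.W_dec hpc hx
  rw [← map_mul]
  exact L.Phi_Zt hpc fun i => L.P4_sq (p i).2

include hpc in
theorem card_W : Nat.card L.Wg = 512 := by
  classical
  have hPP : Nat.card L.PP = 4096 := by
    rw [Nat.card_pi, Fin.prod_univ_four, L.P4_card, L.P4_card, L.P4_card, L.P4_card]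
    norm_num
  let z : Fin 2 → G := fun a => L.S.t ^ (a : ℕ)
  have hz : ∀ a i, z a ∈ L.P4 i := fun a i => pow_mem (L.t_mem_P4 i) _
  have hzinj : Function.Injective z := fun a b h => by
    fin_cases a <;> fin_cases b
    · rfl
    · exact absurd (by simpa [z] using h.symm) L.S.t_ne
    · exact absurd (by simpa [z] using h) L.S.t_ne
    · rfl
  have hzs : ∀ {x : G}, x ∈ L.Zt → ∃ a, z a = x := fun hx => by
    rcases L.mem_Zt.1 hx with rfl | rfl
    · exact ⟨0, by simp [z]⟩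
    · exact ⟨1, by simp [z]⟩
  let q : (Fin 3 → Fin 2) → L.PP := fun a i =>
    if h : i.val < 3 then ⟨z (a ⟨i.val, h⟩), hz _ i⟩ else 1
  have hrest : ∀ p : L.PP, L.Phi hpc p = 1 → ∀ p' : L.PP, L.Phi hpc p' = 1 →
      (∀ i : Fin 4, i.val < 3 → p i = p' i) → p = p' := by
    intro p hp p' hp' h
    have hd : L.Phi hpc (p⁻¹ * p') = 1 := by rw [map_mul, map_inv, hp, hp']; group
    have hs : p⁻¹ * p' = Pi.mulSingle 3 ((p⁻¹ * p') 3) := by
      funext k
      by_cases hk : k = 3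
      · subst hk; rw [Pi.mulSingle_eq_same]
      · rw [Pi.mulSingle_eq_of_ne hk, Pi.mul_apply, Pi.inv_apply, h k (by omega), inv_mul_cancel]
    rw [hs, L.Phi_single] at hd
    have h3 : p⁻¹ * p' = 1 := by
      rw [hs, show (p⁻¹ * p') 3 = 1 from Subtype.ext hd, Pi.mulSingle_one]
    exact inv_mul_eq_one.1 h3
  let fix3 : (Fin 3 → Fin 2) → L.PP := fun a => q a * Pi.mulSingle 3 ⟨(L.Phi hpc (q a))⁻¹, by
    rcases L.mem_Zt.1 (inv_mem (L.Phi_Zt hpc (p := q a) fun i => by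
      simp only [q]
      split
      · exact pow_mem (mem_zpowers _) _
      · exact one_mem _)) with e | e <;> rw [e]
    exacts [one_mem _, L.t_mem_P4 3]⟩
  have hfix : ∀ a, L.Phi hpc (fix3 a) = 1 := fun a => by
    simp only [fix3, map_mul, L.Phi_single]; exact mul_inv_cancel _
  have hfix3 : ∀ a (i : Fin 4) (h : i.val < 3), ((fix3 a) i : G) = z (a ⟨i.val, h⟩) := fun a i h => by
    simp only [fix3, Pi.mul_apply, Pi.mulSingle_eq_of_ne (show i ≠ 3 by omega), mul_one, q, dif_pos h]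
  have hker : Nat.card (L.Phi hpc).ker = 8 := by
    have hb : Function.Bijective fun a : Fin 3 → Fin 2 => (⟨fix3 a, hfix a⟩ : (L.Phi hpc).ker) := by
      constructor
      · intro a b h
        funext k
        have e := congrArg (fun p : L.PP => (p ⟨k.val, by omega⟩ : G)) (congrArg Subtype.val h)
        simp only at e
        rw [hfix3 a _ k.isLt, hfix3 b _ k.isLt] at e
        exact hzinj e
      · rintro ⟨p, hp⟩
        have hmem : ∀ i, (p i : G) ∈ L.Zt := L.Phi_mem_Zt hpc (by rw [MonoidHom.mem_ker.1 hp]; exact one_mem _)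
        choose a ha using fun k : Fin 3 => hzs (hmem ⟨k.val, by omega⟩)
        refine ⟨a, Subtype.ext (hrest _ (hfix a) _ hp fun i hi => Subtype.ext ?_)⟩
        rw [hfix3 a i hi, ha]
    rw [← Nat.card_eq_of_bijective _ hb]
    simp
  have := (L.Phi hpc).ker.card_mul_index
  rw [Subgroup.index_ker, L.Phi_range, hker, hPP] at this
  omega

theorem center_P4 {i : Fin 4} {z : G} (hz : z ∈ L.P4 i) (hc : ∀ y ∈ L.P4 i, z * y = y * z) : z ∈ L.Zt := by
  classical
  by_contra hne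
  obtain ⟨j, hj⟩ := exists_ne i
  have hv := (cp_facts j).2.2
  set g := L.el (cp j) with hg
  set p : L.PP := Pi.mulSingle i ⟨z, hz⟩ with hp
  have hpi : (p i : G) = z := by rw [hp, Pi.mulSingle_eq_same]
  have ho := L.disp_out (L.el_mem_Kt hv) (L.cp_moves hj) (p := p) (by rw [hpi]; exact hne)
  rw [disp_coe, hpi, ← hg] at ho
  have hz' : g * z * g⁻¹ ∈ L.P4 i := L.P4_inv i hv hz
  have hzz : z * z = L.S.t := by
    rcases L.mem_Zt.1 (L.P4_sq hz) with e | e
    · exact absurd (L.mem_Zt.2 (L.P4_invol hz e)) hne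
    · exact e
  have htg : g * L.S.t * g⁻¹ = L.S.t := L.t_conj (L.mem_Kt.1 (L.el_mem_Kt hv)).2
  refine ho (L.mem_Zt.2 (L.P4_invol ((L.P4 i).mul_mem ((L.P4 i).inv_mem hz) hz') ?_))
  have e : z * (g * z * g⁻¹) = g * z * g⁻¹ * z := hc _ hz'
  calc z⁻¹ * (g * z * g⁻¹) * (z⁻¹ * (g * z * g⁻¹)) = z⁻¹ * ((g * z * g⁻¹) * z⁻¹) * (g * z * g⁻¹) := by group
    _ = z⁻¹ * (z⁻¹ * (g * z * g⁻¹)) * (g * z * g⁻¹) := by rw [(Commute.inv_left (show Commute z _ from e)).eq]
    _ = (z * z)⁻¹ * (g * (z * z) * g⁻¹) := by group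
    _ = 1 := by rw [hzz, htg, inv_mul_cancel]

theorem P4_nonabelian (i : Fin 4) : ∃ x ∈ L.P4 i, ∃ y ∈ L.P4 i, x * y ≠ y * x := by
  by_contra h
  push Not at h
  have hle : L.P4 i ≤ L.Zt := fun x hx => L.center_P4 hx (h x hx)
  have := card_le_of_le hle
  rw [L.P4_card, Nat.card_zpowers,
    orderOf_eq_prime (show L.S.t ^ 2 = 1 by rw [pow_two, L.S.t_sq]) L.S.t_ne] at this
  norm_num at this

include hpc in
theorem center_W {x : G} (hx : x ∈ L.Wg) (hc : ∀ y ∈ L.Wg, x * y = y * x) : x ∈ L.Zt := by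
  classical
  obtain ⟨p, rfl⟩ := L.W_dec hpc hx
  refine L.Phi_Zt hpc fun i => L.center_P4 (p i).2 fun y hy => ?_
  set s : L.PP := Pi.mulSingle i ⟨y, hy⟩ with hs
  have h1 : L.Phi hpc (p * s * p⁻¹ * s⁻¹) = 1 := by
    rw [map_mul, map_mul, map_mul, map_inv, map_inv, hc _ (L.Phi_mem hpc s)]
    group
  have h2 : p * s * p⁻¹ * s⁻¹ = Pi.mulSingle i (p i * ⟨y, hy⟩ * (p i)⁻¹ * (⟨y, hy⟩ : L.P4 i)⁻¹) := by
    funext k
    by_cases hk : k = i
    · subst hk; simp [hs]
    · simp [hs, hk]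
  rw [h2, L.Phi_single] at h1
  exact mul_inv_eq_iff_eq_mul.1 (mul_inv_eq_one.1 h1)

include hpc in
theorem W_extra : Cfsg.IsExtraspecial 2 L.Wg := by
  haveI : Fact (Nat.Prime 2) := ⟨Nat.prime_two⟩
  have hmem : ∀ {x : L.Wg}, x ∈ zpowers (⟨L.S.t, L.t_mem_W⟩ : L.Wg) ↔ (x : G) ∈ L.Zt := fun {x} => by
    constructor
    · intro h
      obtain ⟨n, rfl⟩ := mem_zpowers_iff.1 h
      exact zpow_mem (mem_zpowers _) _
    · intro h
      obtain ⟨n, hn⟩ := mem_zpowers_iff.1 h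
      exact mem_zpowers_iff.2 ⟨n, Subtype.ext hn⟩
  have hsq : ∀ x : L.Wg, x ^ 2 ∈ zpowers (⟨L.S.t, L.t_mem_W⟩ : L.Wg) := fun x =>
    hmem.2 (by rw [pow_two]; exact L.W_sq hpc x.2)
  have hzc : ∀ {z : G}, z ∈ L.Zt → ∀ y ∈ L.Wg, z * y = y * z := fun hz y hy => by
    rcases L.mem_Zt.1 hz with rfl | rfl
    · simp
    · exact (L.W_t hy).eq.symm
  refine LargeExtra.isExtraspecial_of (IsPGroup.of_card (n := 9) (by rw [L.card_W hpc]; norm_num))
    (z := ⟨L.S.t, L.t_mem_W⟩) ?_ (fun x => ?_) (fun x y => ?_) hsq ?_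
  · rw [← Subgroup.orderOf_coe]
    exact orderOf_eq_prime (by rw [pow_two]; exact L.S.t_sq) L.S.t_ne
  · rw [hmem]
    exact ⟨fun h => L.center_W hpc x.2 fun y hy => congrArg Subtype.val (h ⟨y, hy⟩),
      fun h y => Subtype.ext (hzc h y y.2)⟩
  · have e : ⁅x, y⁆ = x ^ 2 * (x⁻¹ * y) ^ 2 * (y⁻¹) ^ 2 := by
      rw [commutatorElement_def, pow_two, pow_two, pow_two]; group
    rw [e]
    exact mul_mem (mul_mem (hsq _) (hsq _)) (hsq _)
  · obtain ⟨x, hx, y, hy, hne⟩ := L.P4_nonabelian 0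
    exact ⟨⟨x, L.P4_le_W 0 hx⟩, ⟨y, L.P4_le_W 0 hy⟩, fun e => hne (congrArg Subtype.val e)⟩

include hpc in
/-- The signaliser is a 2-group. -/
theorem W_coprime : (Nat.card L.Wg).Coprime 3 := by rw [L.card_W hpc]; norm_num

include hpc in
/-- Only the quaternion group at the central point is centralised by it. -/
theorem fix_point {x : G} (hx : x ∈ L.Wg) (hc : Commute x L.S.z) : x ∈ L.S.P := by
  obtain ⟨p, rfl⟩ := L.W_dec hpc hx
  have hK : L.el (cp 0) ∈ L.Kt := L.el_mem_Kt (cp_facts 0).2.2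
  have h1 : L.Phi hpc (L.disp hK p) = 1 := L.Phi_disp hpc hK (L.z_commute.2 hc).symm
  have h2 : ∀ k, k ≠ 0 → (p k : G) ∈ L.Zt := fun k hk => by
    by_contra hne
    exact L.disp_out hK (L.cp_moves (Ne.symm hk)) hne (L.Phi_mem_Zt hpc (h1 ▸ one_mem _) k)
  set q : L.PP := (Pi.mulSingle 0 (p 0))⁻¹ * p with hq
  have hqz : L.Phi hpc q ∈ L.Zt := L.Phi_Zt hpc fun k => by
    by_cases hk : k = 0
    · subst hk; simp [hq]
    · simpa [hq, hk] using h2 k hk
  have e : L.Phi hpc p = (p 0 : G) * L.Phi hpc q := by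
    rw [hq, map_mul, map_inv, L.Phi_single, mul_inv_cancel_left]
  rw [e, ← L.P4_zero]
  refine mul_mem (p 0).2 ?_
  rcases L.mem_Zt.1 hqz with e | e <;> rw [e]
  exacts [one_mem _, L.t_mem_P4 0]

include hpc in
/-- An element moving all four groups fixes only the centre. -/
theorem fix_moving {y : G} (hy : y ∈ L.Kt) (hm : ∀ i, ∃ q ∈ L.P4 i, ¬ Commute q y) {x : G} (hx : x ∈ L.Wg)
    (hc : Commute x y) : x = 1 ∨ x = L.S.t := by
  obtain ⟨p, rfl⟩ := L.W_dec hpc hx
  have h1 : L.Phi hpc (L.disp hy p) = 1 := L.Phi_disp hpc hy hc.symm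
  exact L.mem_Zt.1 (L.Phi_Zt hpc fun k => L.move_Zt hy (hm k) (p k).2
    (L.disp_coe hy p k ▸ L.Phi_mem_Zt hpc (h1 ▸ one_mem _) k))

end Loc

end Cfsg.Agent.U62Three
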