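import Cfsg.Agent.Lib.U62Three.Defs
import Mathlib.LinearAlgebra.Matrix.Determinant.Basic

/-!
The geometry of the plane fixed by the first reflection: its four singular, six exterior and three interior points,
the isometries of the symmetric group of degree four given by the six reflections, and an invariant separating the
group of order 720 from the other isometries (the sign of the action on the fifteen exterior points).
-/

set_option autoImplicit false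
set_option maxRecDepth 20000

namespace Cfsg.Agent.U62Three

open Co2Three (V4 qf bf e0 e1 e2 e3 refl1)

/-- An isometry. -/
def Iso (M : Matrix (Fin 4) (Fin 4) (ZMod 3)) : Prop := ∀ v, qf (M.mulVec v) = qf v

theorem Iso.bf_eq {M : Matrix (Fin 4) (Fin 4) (ZMod 3)} (h : Iso M) (u v : V4) :
    bf (M.mulVec u) (M.mulVec v) = bf u v := by
  rw [Co2Three.bf_polar, Co2Three.bf_polar, ← Matrix.mulVec_add, h, h, h]

theorem Iso.mul {A B : Matrix (Fin 4) (Fin 4) (ZMod 3)} (hA : Iso A) (hB : Iso B) : Iso (A * B) := fun v => by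
  rw [← Matrix.mulVec_mulVec, hA, hB]

theorem Iso.one : Iso (1 : Matrix (Fin 4) (Fin 4) (ZMod 3)) := fun v => by rw [Matrix.one_mulVec]

theorem bf_nondeg : ∀ v : V4, bf v e0 = 0 → bf v e1 = 0 → bf v e2 = 0 → bf v e3 = 0 → v = 0 := by decide +kernel

theorem Iso.injective {M : Matrix (Fin 4) (Fin 4) (ZMod 3)} (h : Iso M) : Function.Injective M.mulVec := by
  intro u v huv
  refine sub_eq_zero.1 ?_
  have h0 : M.mulVec (u - v) = 0 := by rw [Matrix.mulVec_sub, huv, sub_self]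
  have key : ∀ w, bf (u - v) w = 0 := fun w => by
    rw [← h.bf_eq, h0]
    simp [bf]
  exact bf_nondeg _ (key _) (key _) (key _) (key _)

theorem Iso.surjective {M : Matrix (Fin 4) (Fin 4) (ZMod 3)} (h : Iso M) : Function.Surjective M.mulVec :=
  Finite.injective_iff_surjective.1 h.injective

theorem r1M_mulVec : ∀ v : V4, r1M.mulVec v = refl1 v := by decide +kernel

theorem refl1_fix_iff : ∀ v : V4, refl1 v = v ↔ v 1 = 0 := by decide +kernel

theorem refl1_neg : ∀ v : V4, refl1 v = -v → ∃ a : ZMod 3, v = a • e1 := by decide +kernel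

theorem refl1_two : ∀ v : V4, refl1 (refl1 v) = v ∧ qf (refl1 v) = qf v := by decide +kernel

theorem r1M_iso : Iso r1M := fun v => by rw [r1M_mulVec]; exact (refl1_two v).2

theorem IsS6.iso {M : Matrix (Fin 4) (Fin 4) (ZMod 3)} (h : IsS6 M) : Iso M := by
  rcases h with h | ⟨R, hR, rfl⟩
  · exact h.qf_eq
  · exact Iso.mul hR.qf_eq r1M_iso

/-! ### The invariant -/

/-- The first non-zero coordinate. -/
def sg (w : V4) : ZMod 3 := if w 0 ≠ 0 then w 0 else if w 1 ≠ 0 then w 1 else if w 2 ≠ 0 then w 2 else w 3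

/-- One vector at each exterior point. -/
def Rneg : Finset V4 := Finset.univ.filter fun v => qf v = -1 ∧ sg v = 1

theorem mem_Rneg {v : V4} : v ∈ Rneg ↔ qf v = -1 ∧ sg v = 1 := by simp [Rneg]

/-- The invariant: the product of the signs of the images. -/
def chi (M : Matrix (Fin 4) (Fin 4) (ZMod 3)) : ZMod 3 := ∏ v ∈ Rneg, sg (M.mulVec v)

theorem sg_facts : (∀ (k : ZMod 3) (v : V4), sg (k • v) = k * sg v) ∧
    (∀ v : V4, qf v = -1 → sg v * sg v = 1 ∧ sg v • sg v • v = v ∧ qf (sg v • v) = -1 ∧ sg (sg v • v) = 1) := by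
  decide +kernel

seal Rneg in
theorem chi_mul {A g : Matrix (Fin 4) (Fin 4) (ZMod 3)} (hg : Iso g) : chi (A * g) = chi g * chi A := by
  let π : V4 → V4 := fun v => sg (g.mulVec v) • g.mulVec v
  have hq : ∀ v ∈ Rneg, qf (g.mulVec v) = -1 := fun v hv => by rw [hg, (mem_Rneg.1 hv).1]
  have hmem : ∀ v ∈ Rneg, π v ∈ Rneg := fun v hv =>
    mem_Rneg.2 ⟨(sg_facts.2 _ (hq v hv)).2.2.1, (sg_facts.2 _ (hq v hv)).2.2.2⟩
  have hinj : Set.InjOn π Rneg := by
    intro v hv w hw e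
    have hv2 := (sg_facts.2 _ (hq v hv))
    have hw2 := (sg_facts.2 _ (hq w hw))
    have e' : g.mulVec v = g.mulVec ((sg (g.mulVec v) * sg (g.mulVec w)) • w) := by
      rw [Matrix.mulVec_smul, ← smul_smul]
      exact hv2.2.1.symm.trans (congrArg (fun x => sg (g.mulVec v) • x) e)
    have e'' := hg.injective e'
    have hs := congrArg sg e''
    rw [sg_facts.1, (mem_Rneg.1 hv).2, (mem_Rneg.1 hw).2, mul_one] at hs
    rw [e'', ← hs, one_smul]
  have hsurj : Set.SurjOn π Rneg Rneg := Finset.surjOn_of_injOn_of_card_le π hmem hinj le_rfl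
  calc chi (A * g) = ∏ v ∈ Rneg, sg (g.mulVec v) * sg (A.mulVec (π v)) := by
        refine Finset.prod_congr rfl fun v hv => ?_
        rw [Matrix.mulVec_smul, sg_facts.1, ← mul_assoc, (sg_facts.2 _ (hq v hv)).1, one_mul,
          Matrix.mulVec_mulVec]
    _ = chi g * ∏ v ∈ Rneg, sg (A.mulVec (π v)) := Finset.prod_mul_distrib
    _ = chi g * chi A := by
      rw [chi]
      exact congrArg _ (Finset.prod_nbij (f := fun v => sg (A.mulVec (π v))) (g := fun w => sg (A.mulVec w))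
        π hmem hinj hsurj fun _ _ => rfl)

theorem gen_check : ∀ a b : ZMod 3, chi (trM a b) = 1 ∧ chi (tr3M a b) = 1 ∧
    (trM a b).det = 1 ∧ (tr3M a b).det = 1 := by decide +kernel

theorem r1M_check : chi r1M = -1 ∧ r1M.det = -1 := by decide +kernel

theorem IsRot.chi_det {M : Matrix (Fin 4) (Fin 4) (ZMod 3)} (h : IsRot M) : chi M = 1 ∧ M.det = 1 := by
  induction h using Submonoid.closure_induction_right with
  | one => exact ⟨by decide +kernel, Matrix.det_one⟩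
  | mul_right A hA B hB ih =>
    rcases hB with ⟨p, rfl⟩ | ⟨p, rfl⟩
    · obtain ⟨c, -, d, -⟩ := gen_check p.1 p.2
      refine ⟨?_, ?_⟩
      · rw [chi_mul fun v => (trM_mulVec p.1 p.2 v).1, c, ih.1, mul_one]
      · rw [Matrix.det_mul, ih.2, d, mul_one]
    · obtain ⟨-, c, -, d⟩ := gen_check p.1 p.2
      refine ⟨?_, ?_⟩
      · rw [chi_mul fun v => (trM_mulVec p.1 p.2 v).2, c, ih.1, mul_one]
      · rw [Matrix.det_mul, ih.2, d, mul_one]

/-- The members of the group of order 720 satisfy the condition. -/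
theorem IsS6.chi_det {M : Matrix (Fin 4) (Fin 4) (ZMod 3)} (h : IsS6 M) : chi M = M.det := by
  rcases h with h | ⟨R, hR, rfl⟩
  · rw [h.chi_det.1, h.chi_det.2]
  · rw [chi_mul r1M_iso, Matrix.det_mul, r1M_check.1, r1M_check.2, hR.chi_det.1, hR.chi_det.2, mul_one, one_mul]

/-! ### The six reflections of the plane -/

/-- The six exterior points of the plane. -/
def axv : Fin 6 → V4 :=
  ![![0, 0, 1, 0], ![1, 0, 0, 2], ![0, 0, 1, 1], ![0, 0, 2, 1], ![1, 0, 1, 0], ![1, 0, 2, 0]]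

/-- Their reflections. -/
def rM : Fin 6 → Matrix (Fin 4) (Fin 4) (ZMod 3) :=
  ![!![1, 0, 0, 0; 0, 1, 0, 0; 0, 0, 2, 0; 0, 0, 0, 1], !![0, 0, 0, 1; 0, 1, 0, 0; 0, 0, 1, 0; 1, 0, 0, 0],
    !![1, 0, 0, 0; 0, 1, 0, 0; 1, 0, 2, 0; 1, 0, 1, 1], !![1, 0, 0, 0; 0, 1, 0, 0; 2, 0, 2, 0; 1, 0, 2, 1],
    !![1, 0, 1, 1; 0, 1, 0, 0; 0, 0, 2, 1; 0, 0, 0, 1], !![1, 0, 2, 1; 0, 1, 0, 0; 0, 0, 2, 2; 0, 0, 0, 1]]

/-- The words in the translations. -/
def rW : Fin 6 → Matrix (Fin 4) (Fin 4) (ZMod 3) :=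
  ![trM 0 1 * tr3M 1 2 * trM 2 0 * tr3M 1 1, trM 1 0 * tr3M 2 0 * trM 1 0, trM 1 1 * tr3M 2 0 * trM 1 2,
    trM 1 2 * tr3M 2 0 * trM 1 1, tr3M 1 1 * trM 2 0 * tr3M 1 2, tr3M 1 2 * trM 2 0 * tr3M 1 1]

theorem rM_word : ∀ k, rM k = rW k * r1M := by decide +kernel

theorem rM_mulVec : ∀ k v, (rM k).mulVec v = v + bf v (axv k) • axv k := by decide +kernel

theorem rM_refl : ∀ k v, (rM k).mulVec (refl1 v) = refl1 ((rM k).mulVec v) := by decide +kernel

theorem rW_isRot : ∀ k : Fin 6, IsRot (rW k) := by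
  refine Fin.forall_fin_succ.2 ⟨?_, Fin.forall_fin_succ.2 ⟨?_, Fin.forall_fin_succ.2 ⟨?_, Fin.forall_fin_succ.2 ⟨?_,
    Fin.forall_fin_succ.2 ⟨?_, Fin.forall_fin_one.2 ?_⟩⟩⟩⟩⟩
  · exact (((isRot_tr 0 1).mul (isRot_tr3 1 2)).mul (isRot_tr 2 0)).mul (isRot_tr3 1 1)
  · exact ((isRot_tr 1 0).mul (isRot_tr3 2 0)).mul (isRot_tr 1 0)
  · exact ((isRot_tr 1 1).mul (isRot_tr3 2 0)).mul (isRot_tr 1 2)
  · exact ((isRot_tr 1 2).mul (isRot_tr3 2 0)).mul (isRot_tr 1 1)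
  · exact ((isRot_tr3 1 1).mul (isRot_tr 2 0)).mul (isRot_tr3 1 2)
  · exact ((isRot_tr3 1 2).mul (isRot_tr 2 0)).mul (isRot_tr3 1 1)

theorem rM_isS6 (k : Fin 6) : IsS6 (rM k) := Or.inr ⟨_, rW_isRot k, rM_word k⟩

/-- The identity and the six reflections. -/
def sM : Fin 7 → Matrix (Fin 4) (Fin 4) (ZMod 3) := Matrix.vecCons 1 rM

theorem sM_isS6 (k : Fin 7) : IsS6 (sM k) := by
  refine Fin.cases ?_ (fun i => ?_) k
  · exact Or.inl isRot_one
  · exact rM_isS6 i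

theorem sM_iso (k : Fin 7) : Iso (sM k) := (sM_isS6 k).iso

theorem sM_refl : ∀ k v, (sM k).mulVec (refl1 v) = refl1 ((sM k).mulVec v) := by decide +kernel

theorem sM_sq : ∀ k v, (sM k).mulVec ((sM k).mulVec v) = v := by decide +kernel

/-! ### The points of the plane -/

/-- The four singular points. -/
def cp : Fin 4 → V4 := ![![1, 0, 0, 0], ![0, 0, 0, 1], ![1, 0, 1, 1], ![1, 0, 2, 1]]

theorem cp_zero : cp 0 = e0 := rfl

theorem cp_one : cp 1 = e3 := rfl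

theorem cp_facts : ∀ i, cp i ≠ 0 ∧ qf (cp i) = 0 ∧ cp i 1 = 0 := by decide +kernel

theorem cp_bf : ∀ i j, bf (cp i) (cp j) = 0 ↔ i = j := by decide +kernel

theorem cp_ne_smul : ∀ i j, ∀ k : ZMod 3, cp i = k • cp j → i = j := by decide +kernel

/-- The moves of the central point to the four. -/
def tp : Fin 4 → Fin 7 := ![0, 2, 3, 4]

theorem tp_pt : ∀ i, (sM (tp i)).mulVec e0 = cp i := by decide +kernel

theorem plane_sing : ∀ v : V4, v 1 = 0 → v ≠ 0 → qf v = 0 → ∃ i, v = cp i ∨ v = -cp i := by decide +kernel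

theorem plane_basis : ∀ v : V4, v 1 = 0 → v = v 0 • e0 + v 2 • e2 + v 3 • e3 := by decide +kernel

theorem plane_ci : ∀ v : V4, v 1 = 0 →
    v = (2 * (v 0 + v 3)) • ci + (2 * (v 0 - v 3)) • ec + v 2 • e2 := by decide +kernel

theorem pair_move : ∀ i j, i ≠ j → ∃ k l, ((sM k).mulVec ((sM l).mulVec (cp i)) = cp 0 ∨
      (sM k).mulVec ((sM l).mulVec (cp i)) = -cp 0) ∧
    ((sM k).mulVec ((sM l).mulVec (cp j)) = cp 1 ∨ (sM k).mulVec ((sM l).mulVec (cp j)) = -cp 1) := by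
  decide +kernel

theorem exterior_move : ∀ v : V4, v 1 = 0 → qf v = -1 →
    ∃ k l, (sM k).mulVec ((sM l).mulVec v) = e2 ∨ (sM k).mulVec ((sM l).mulVec v) = -e2 := by decide +kernel

theorem interior_move : ∀ v : V4, v 1 = 0 → qf v = 1 →
    ∃ k, (sM k).mulVec v = ci ∨ (sM k).mulVec v = -ci := by decide +kernel

theorem external_check : ∀ x0 x2 x3 y0 y2 y3 : ZMod 3,
    (∀ i j : ZMod 3, ¬ (i = 0 ∧ j = 0) → qf (i • (![x0, 0, x2, x3] : V4) + j • ![y0, 0, y2, y3]) ≠ 0) →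
    ∃ k : Fin 7, (sM k).mulVec ![x0, 0, x2, x3] 0 + (sM k).mulVec ![x0, 0, x2, x3] 3 = 0 ∧
      (sM k).mulVec ![y0, 0, y2, y3] 0 + (sM k).mulVec ![y0, 0, y2, y3] 3 = 0 ∧
      ∃ p q r s : ZMod 3, (sM k).mulVec e2 = p • ![x0, 0, x2, x3] + q • ![y0, 0, y2, y3] ∧
        (sM k).mulVec ec = r • ![x0, 0, x2, x3] + s • ![y0, 0, y2, y3] := by decide +kernel

theorem vec_plane : ∀ v : V4, v 1 = 0 → v = ![v 0, 0, v 2, v 3] := by decide +kernel

/-- An external line of the plane is moved onto the polar line of the interior point. -/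
theorem external_move {a b : V4} (ha : a 1 = 0) (hb : b 1 = 0)
    (h : ∀ i j : ZMod 3, ¬ (i = 0 ∧ j = 0) → qf (i • a + j • b) ≠ 0) :
    ∃ k : Fin 7, ∃ p q r s : ZMod 3, (sM k).mulVec e2 = p • a + q • b ∧ (sM k).mulVec ec = r • a + s • b := by
  rw [vec_plane a ha, vec_plane b hb] at h ⊢
  obtain ⟨k, -, -, p, q, r, s, h1, h2⟩ := external_check _ _ _ _ _ _ h
  exact ⟨k, p, q, r, s, h1, h2⟩

theorem bf_e0_right : ∀ v : V4, bf v e0 = v 3 := by decide +kernel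

theorem tangent_span : ∀ a b : V4, a 3 = 0 → b 3 = 0 → qf a = -1 → qf b = -1 → bf a b = 0 →
    ∃ i j k p q r : ZMod 3, e1 = i • e0 + j • a + k • b ∧ e2 = p • e0 + q • a + r • b := by decide +kernel

theorem plane_vecs : ci 1 = 0 ∧ ec 1 = 0 ∧ e2 1 = 0 ∧ e0 1 = 0 ∧ e3 1 = 0 ∧ qf ci = 1 ∧ qf ec = -1 ∧ qf e2 = -1 ∧
    e0 = -(ci + ec) ∧ e3 = ec - ci ∧ ec = e0 - e3 ∧ ci = e0 + e3 ∧ bf ci ec = 0 ∧ bf ci e2 = 0 ∧ bf ec e2 = 0 := by
  decide +kernel

/-! ### The isometries commuting with the first reflection -/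

/-- The map with the given values at `e1`, `e2`, `ec` and `ci`. -/
def dM (s : ZMod 3) (p q r : V4) : Matrix (Fin 4) (Fin 4) (ZMod 3) :=
  Matrix.of fun i j => (![-(r + q), s • e1, p, q - r] : Fin 4 → V4) j i

theorem dM_vec : ∀ i : Fin 4, ∀ s : ZMod 3, ∀ p q r : V4,
    (dM s p q r).mulVec (Pi.single i 1) = (![-(r + q), s • e1, p, q - r] : Fin 4 → V4) i := by
  intro i s p q r
  rw [Matrix.mulVec_single_one]
  rfl

theorem line_ci : ∀ v : V4, v 1 = 0 → bf v e2 = 0 → qf v = 1 → v = ci ∨ v = -ci := by decide +kernel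

theorem line_ec : ∀ v : V4, v 1 = 0 → bf v e2 = 0 → qf v = -1 → v = ec ∨ v = -ec := by decide +kernel

theorem polar_ci : ∀ v : V4, v 1 = 0 → bf v ci = 0 → qf v = -1 → v = e2 ∨ v = -e2 ∨ v = ec ∨ v = -ec := by
  decide +kernel

theorem polar_pair : ∀ v : V4, v 1 = 0 → bf v ci = 0 → bf v ec = 0 → qf v = -1 → v = e2 ∨ v = -e2 := by
  decide +kernel

theorem neg_e1_axis : ∀ v : V4, refl1 v = -v → qf v = -1 → v = e1 ∨ v = -e1 := by decide +kernel

section Frame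

variable {M : Matrix (Fin 4) (Fin 4) (ZMod 3)} (hi : Iso M) (hc : ∀ v, M.mulVec (refl1 v) = refl1 (M.mulVec v))

include hc in
theorem plane_img {v : V4} (hv : v 1 = 0) : M.mulVec v 1 = 0 :=
  (refl1_fix_iff _).1 (by rw [← hc, (refl1_fix_iff v).2 hv])

include hi hc in
theorem e1_img : M.mulVec e1 = e1 ∨ M.mulVec e1 = -e1 :=
  neg_e1_axis _ (by rw [← hc, show refl1 e1 = -e1 by decide, Matrix.mulVec_neg]) (by rw [hi]; decide)

include hi hc in
theorem frame_eq : ∃ s : ZMod 3, (s = 1 ∨ s = -1) ∧ M = dM s (M.mulVec e2) (M.mulVec ec) (M.mulVec ci) := by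
  obtain ⟨s, hs, he⟩ : ∃ s : ZMod 3, (s = 1 ∨ s = -1) ∧ M.mulVec e1 = s • e1 := by
    rcases e1_img hi hc with e | e
    · exact ⟨1, Or.inl rfl, by rw [e, one_smul]⟩
    · exact ⟨-1, Or.inr rfl, by rw [e, neg_one_smul]⟩
  refine ⟨s, hs, Matrix.ext_of_mulVec_single fun i => ?_⟩
  rw [dM_vec]
  obtain ⟨-, -, -, -, -, -, -, -, h0, h3, -⟩ := plane_vecs
  fin_cases i
  · show M.mulVec (Pi.single 0 1) = -(M.mulVec ci + M.mulVec ec)
    rw [single_eq.1, h0, Matrix.mulVec_neg, Matrix.mulVec_add]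
  · show M.mulVec (Pi.single 1 1) = s • e1
    rw [single_eq.2.1, he]
  · show M.mulVec (Pi.single 2 1) = M.mulVec e2
    rw [single_eq.2.2.1]
  · show M.mulVec (Pi.single 3 1) = M.mulVec ec - M.mulVec ci
    rw [single_eq.2.2.2, h3, Matrix.mulVec_sub]

theorem s6_check : ∀ s : ZMod 3, s ≠ 0 → ∀ a b : ZMod 3, a ≠ 0 → b ≠ 0 →
    chi (dM s e2 (a • ec) (-ci)) ≠ (dM s e2 (a • ec) (-ci)).det ∧
    chi (dM s (a • ec) (b • e2) ci) ≠ (dM s (a • ec) (b • e2) ci).det := by decide +kernel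

include hi hc in
/-- Fixing `e2` the other two axes are fixed up to sign. -/
theorem fix_e2 (h2 : M.mulVec e2 = e2) :
    (M.mulVec ci = ci ∨ M.mulVec ci = -ci) ∧ (M.mulVec ec = ec ∨ M.mulVec ec = -ec) := by
  have hb : ∀ v : V4, bf v e2 = 0 → bf (M.mulVec v) e2 = 0 := fun v hv => by
    rw [← hi.bf_eq, h2] at hv
    exact hv
  obtain ⟨h1, hc1, -, -, -, hq, hq', -, -, -, -, -, -, hb1, hb2⟩ := plane_vecs
  exact ⟨line_ci _ (plane_img hc h1) (hb _ hb1) (by rw [hi, hq]),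
    line_ec _ (plane_img hc hc1) (hb _ hb2) (by rw [hi, hq'])⟩

include hi hc in
/-- In the group of order 720 fixing `e2` fixes the interior point orthogonal to it. -/
theorem s6_fix_e2 (hS : IsS6 M) (h2 : M.mulVec e2 = e2) : M.mulVec ci = ci := by
  obtain ⟨hci, hec⟩ := fix_e2 hi hc h2
  refine hci.resolve_right fun hneg => ?_
  obtain ⟨s, hs, hM⟩ := frame_eq hi hc
  obtain ⟨a, ha, hea⟩ : ∃ a : ZMod 3, a ≠ 0 ∧ M.mulVec ec = a • ec := by
    rcases hec with e | e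
    · exact ⟨1, one_ne_zero, by rw [e, one_smul]⟩
    · exact ⟨-1, by decide, by rw [e, neg_one_smul]⟩
  rw [h2, hneg, hea] at hM
  have hs0 : s ≠ 0 := by rcases hs with rfl | rfl <;> decide
  have h := hS.chi_det
  rw [hM] at h
  exact (s6_check s hs0 a 1 ha one_ne_zero).1 h

include hi hc in
/-- Fixing the interior point the polar axes are permuted. -/
theorem fix_ci (hci : M.mulVec ci = ci) :
    ((M.mulVec e2 = e2 ∨ M.mulVec e2 = -e2) ∧ (M.mulVec ec = ec ∨ M.mulVec ec = -ec)) ∨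
      ((M.mulVec e2 = ec ∨ M.mulVec e2 = -ec) ∧ (M.mulVec ec = e2 ∨ M.mulVec ec = -e2)) := by
  have hb : ∀ v : V4, bf v ci = 0 → bf (M.mulVec v) ci = 0 := fun v hv => by
    rw [← hi.bf_eq, hci] at hv
    exact hv
  have key : ∀ p q : V4, (p = e2 ∨ p = -e2 ∨ p = ec ∨ p = -ec) → (q = e2 ∨ q = -e2 ∨ q = ec ∨ q = -ec) →
      bf p q = 0 →
      ((p = e2 ∨ p = -e2) ∧ (q = ec ∨ q = -ec)) ∨ ((p = ec ∨ p = -ec) ∧ (q = e2 ∨ q = -e2)) := by
    rintro p q (rfl | rfl | rfl | rfl) (rfl | rfl | rfl | rfl) <;> decide +kernel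
  refine key _ _ (polar_ci _ (plane_img hc (by decide)) (hb _ (by decide)) (by rw [hi]; decide))
    (polar_ci _ (plane_img hc (by decide)) (hb _ (by decide)) (by rw [hi]; decide)) ?_
  rw [hi.bf_eq]
  decide

include hi hc in
/-- In the group of order 720 fixing the interior point fixes both polar axes up to sign. -/
theorem s6_fix_ci (hS : IsS6 M) (hci : M.mulVec ci = ci) :
    (M.mulVec e2 = e2 ∨ M.mulVec e2 = -e2) ∧ (M.mulVec ec = ec ∨ M.mulVec ec = -ec) := by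
  refine (fix_ci hi hc hci).resolve_right fun ⟨hp, hq⟩ => ?_
  obtain ⟨s, hs, hM⟩ := frame_eq hi hc
  obtain ⟨a, ha, hea⟩ : ∃ a : ZMod 3, a ≠ 0 ∧ M.mulVec e2 = a • ec := by
    rcases hp with e | e
    · exact ⟨1, one_ne_zero, by rw [e, one_smul]⟩
    · exact ⟨-1, by decide, by rw [e, neg_one_smul]⟩
  obtain ⟨b, hb, heb⟩ : ∃ b : ZMod 3, b ≠ 0 ∧ M.mulVec ec = b • e2 := by
    rcases hq with e | e
    · exact ⟨1, one_ne_zero, by rw [e, one_smul]⟩
    · exact ⟨-1, by decide, by rw [e, neg_one_smul]⟩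
  rw [hci, hea, heb] at hM
  have hs0 : s ≠ 0 := by rcases hs with rfl | rfl <;> decide
  have h := hS.chi_det
  rw [hM] at h
  exact (s6_check s hs0 a b ha hb).2 h

include hi hc in
/-- A map fixing the three axes of the plane is trivial or the first reflection. -/
theorem trivial_plane (h2 : M.mulVec e2 = e2) (hc' : M.mulVec ec = ec) (hci : M.mulVec ci = ci) :
    M = 1 ∨ M = r1M := by
  obtain ⟨s, hs, hM⟩ := frame_eq hi hc
  rw [h2, hc', hci] at hM
  rcases hs with rfl | rfl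
  · exact Or.inl (hM.trans (by decide +kernel))
  · exact Or.inr (hM.trans (by decide +kernel))

end Frame

/-! ### The half turns about two interior points -/

/-- The interior points of the two half turns. -/
def hj : Fin 2 → V4 := ![![1, 0, 0, 1], ![1, 0, 1, 2]]

/-- The half turns. -/
def hM : Fin 2 → Matrix (Fin 4) (Fin 4) (ZMod 3) := ![rM 0 * rM 1, rM 3 * rM 4]

theorem hM_word : hM 0 = trM 0 1 * tr3M 0 2 * trM 0 1 ∧ hM 1 = trM 0 1 * tr3M 0 1 := by decide +kernel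

theorem hM_isS6 : ∀ k : Fin 2, IsS6 (hM k) := by
  refine Fin.forall_fin_two.2 ⟨?_, ?_⟩
  · exact Or.inl (hM_word.1 ▸ ((isRot_tr _ _).mul (isRot_tr3 _ _)).mul (isRot_tr _ _))
  · exact Or.inl (hM_word.2 ▸ (isRot_tr _ _).mul (isRot_tr3 _ _))

theorem hM_iso (k : Fin 2) : Iso (hM k) := (hM_isS6 k).iso

theorem hM_facts : (∀ k v, (hM k).mulVec (refl1 v) = refl1 ((hM k).mulVec v)) ∧
    (∀ k, ∀ v : V4, v 1 = 0 → (hM k).mulVec v = -v + bf v (hj k) • hj k) ∧
    (∀ k, hj k 1 = 0 ∧ qf (hj k) = 1) ∧ bf (hj 0) (hj 1) = 0 ∧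
    (∀ k v, (hM k).mulVec ((hM k).mulVec v) = v) ∧
    ∀ v, (hM 0).mulVec ((hM 1).mulVec v) = (hM 1).mulVec ((hM 0).mulVec v) := by decide +kernel

theorem turn_fix : ∀ w w' : V4, w 1 = 0 → w' 1 = 0 → qf w = 1 → qf w' = 1 → bf w w' = 0 → ∀ d : V4, d 1 = 0 →
    -d + bf d w • w = d → -d + bf d w' • w' = d → d = 0 := by decide +kernel

theorem plane_trans : ∀ b : ZMod 3, b ≠ 0 →
    ((trM 0 b).mulVec e3 = cp 2 ∨ (trM 0 b).mulVec e3 = cp 3) := by decide +kernel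

end Cfsg.Agent.U62Three
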