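import Cfsg.Agent.Lib.U62Three.W.Cent

/-!
The quaternion groups at the four singular points of the plane: permuted by the stabiliser of the plane, normalised
by the fixed part of the centraliser, each of whose elements centralises a group or fixes no element outside its
centre, and at each point the largest signaliser.
-/

set_option autoImplicit false
set_option maxRecDepth 20000
set_option linter.style.haveILetI false
set_option linter.unusedSectionVars false

namespace Cfsg.Agent.U62Three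

open Subgroup
open Co2Three (V4 qf bf e0 e1 e2 e3 refl1)
open scoped commutatorElement

/-- The images of the opposite point under the four moves. -/
def opp : Fin 4 → V4 := fun i => (sM (tp i)).mulVec e3

theorem opp_facts : opp 0 = e3 ∧ opp 1 = e0 := by decide +kernel

theorem tp_bf : ∀ i v, bf ((sM (tp i)).mulVec v) (cp i) = v 3 ∧
    (((sM (tp i)).mulVec v) 1 = 0 ↔ v 1 = 0) := by decide +kernel

namespace Loc

variable {G : Type*} [Group G] [Finite G] (L : Loc G)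

theorem t_conj {g : G} (hg : Commute g L.S.t) : g * L.S.t * g⁻¹ = L.S.t := by rw [hg.eq, mul_inv_cancel_right]

theorem t_inv_conj {g : G} (hg : Commute g L.S.t) : g⁻¹ * L.S.t * g = L.S.t := by
  rw [mul_assoc, ← hg.eq, inv_mul_cancel_left]

theorem P_t {p : G} (hp : p ∈ L.S.P) : Commute p L.S.t := by
  by_cases h2 : p * p = 1
  · rcases L.S.P_invol p hp h2 with rfl | rfl
    · exact Commute.one_left _
    · exact Commute.refl _
  · have hp4 : (p ^ 4) * (p ^ 4) = 1 := by rw [← pow_add, L.P_pow8 hp]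
    rcases L.S.P_invol _ (pow_mem hp 4) hp4 with e | e
    · rcases L.S.P_invol _ (pow_mem hp 2) (by rw [← pow_add]; exact e) with e2 | e2
      · exact absurd (pow_two p ▸ e2) h2
      · rw [← e2]; exact Commute.self_pow p 2
    · rw [← e]; exact Commute.self_pow p 4

theorem Kt_P {x p : G} (hx : x ∈ L.Kt) (hp : p ∈ L.S.P) : x * p * x⁻¹ ∈ L.S.P :=
  L.P_conj (L.mem_Kt.1 hx).2 (L.K_le_NJ (L.mem_Kt.1 hx).1)
    (by rw [(L.Kt_z hx).eq, mul_inv_cancel_right]; exact mem_zpowers _) hp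

theorem e3_Kt : L.el e3 ∈ L.Kt := L.el_mem_Kt (by decide)

theorem e3_fpf {p : G} (hp : p ∈ L.S.P) (hc : Commute p (L.el e3)) : p = 1 ∨ p = L.S.t :=
  L.P_move e3 (by decide) (by decide) p hp hc

/-- A subgroup of the quaternion group invariant under the opposite point is central or everything. -/
theorem P_irred {S : Subgroup G} (hS : S ≤ L.S.P) (hinv : ∀ p ∈ S, L.el e3 * p * (L.el e3)⁻¹ ∈ S)
    {z : G} (hz : z ∈ S) (hz1 : z ≠ 1) (hzt : z ≠ L.S.t) : S = L.S.P := by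
  haveI : Fact (Nat.Prime 2) := ⟨Nat.prime_two⟩
  -- no element of the group generates an invariant cyclic subgroup but the involution
  have key : ∀ y ∈ L.S.P, y ≠ 1 → y ≠ L.S.t → L.el e3 * y * (L.el e3)⁻¹ ∉ zpowers y := by
    intro y hy hy1 hyt hm
    obtain ⟨n, hn⟩ := (isOfFinOrder_of_finite _).mem_powers_iff_mem_zpowers.2 hm
    change y ^ n = _ at hn
    have step : ∀ j : ℕ, L.el e3 * y ^ j * (L.el e3)⁻¹ = y ^ (n * j) := fun j => by
      rw [← conj_pow, ← hn, ← pow_mul]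
    have h3 : y ^ (n * (n * n)) = y ^ 1 := by
      rw [← step, ← step, hn, pow_one]
      calc L.el e3 * (L.el e3 * (L.el e3 * y * (L.el e3)⁻¹) * (L.el e3)⁻¹) * (L.el e3)⁻¹
          = (L.el e3) ^ 3 * y * ((L.el e3) ^ 3)⁻¹ := by rw [pow_three]; group
        _ = y := by rw [L.el_cube]; group
    have hd : orderOf y ∣ 2 ^ 3 := orderOf_dvd_of_pow_eq_one (L.P_pow8 hy)
    obtain ⟨i, hi3, hi⟩ := (Nat.dvd_prime_pow Nat.prime_two).1 hd
    rw [pow_eq_pow_iff_modEq, hi] at h3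
    have hn1 : n % 2 ^ i = 1 % 2 ^ i := by
      have hmod : n * (n * n) % 2 ^ i = (n % 2 ^ i) * ((n % 2 ^ i) * (n % 2 ^ i)) % 2 ^ i := by
        simp [Nat.mul_mod]
      have hk := (by decide : ∀ i < 4, ∀ m < 2 ^ i, m * (m * m) % 2 ^ i = 1 % 2 ^ i → m = 1 % 2 ^ i) i (by omega)
        (n % 2 ^ i) (Nat.mod_lt n (Nat.two_pow_pos i))
      exact hk (hmod ▸ h3)
    have he : y ^ n = y ^ 1 := by rw [pow_eq_pow_iff_modEq, hi]; exact hn1
    rw [pow_one] at he
    rw [he] at hn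
    rcases L.e3_fpf hy (mul_inv_eq_iff_eq_mul.1 hn.symm).symm with e | e
    exacts [hy1 e, hyt e]
  refine eq_of_le_of_card_ge hS ?_
  have hd := card_dvd_of_le hS
  rw [L.S.card_P, show (8 : ℕ) = 2 ^ 3 by norm_num] at hd
  obtain ⟨i, hi, he⟩ := (Nat.dvd_prime_pow Nat.prime_two).1 hd
  rw [L.S.card_P, he]
  by_contra hlt
  have hi2 : i ≤ 2 := by
    by_contra h
    have : i = 3 := by omega
    subst this
    norm_num at hlt
  have hS4 : Nat.card S ≤ 4 := by
    rw [he]; exact (Nat.pow_le_pow_right (by norm_num) hi2).trans_eq (by norm_num)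
  have hcyc : S = zpowers z := (eq_of_le_of_card_ge (zpowers_le.2 hz) (by
    rw [Nat.card_zpowers]
    refine hS4.trans (Nat.le_of_dvd (orderOf_pos z) ?_)
    have hd2 : orderOf z ∣ 2 ^ 3 := orderOf_dvd_of_pow_eq_one (L.P_pow8 (hS hz))
    obtain ⟨j, hj, hj'⟩ := (Nat.dvd_prime_pow Nat.prime_two).1 hd2
    rw [hj', show (4 : ℕ) = 2 ^ 2 by norm_num]
    refine pow_dvd_pow 2 (not_lt.1 fun hj2 => ?_)
    rcases L.S.P_invol z (hS hz) (by
      rw [← pow_two]
      refine orderOf_dvd_iff_pow_eq_one.1 (hj' ▸ ?_)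
      exact (pow_dvd_pow 2 (show j ≤ 1 by omega)).trans (by norm_num)) with e | e
    exacts [hz1 e, hzt e])).symm
  exact key z (hS hz) hz1 hzt (hcyc ▸ hinv z hz)

theorem P_four {p : G} (hp : p ∈ L.S.P) : p ^ 4 = 1 := by
  by_contra h
  have hord : orderOf p = 8 := orderOf_eq_prime_pow (p := 2) (n := 2) h (L.P_pow8 hp)
  have hP : zpowers p = L.S.P := eq_of_le_of_card_ge (zpowers_le.2 hp) (by rw [Nat.card_zpowers, hord, L.S.card_P])
  have h1 : p ≠ 1 := fun e => h (by rw [e, one_pow])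
  have ht : p ≠ L.S.t := fun e => h (by rw [e, show L.S.t ^ 4 = (L.S.t * L.S.t) ^ 2 by rw [← pow_two, ← pow_mul], L.S.t_sq, one_pow])
  have hinv : ∀ q ∈ zpowers (p ^ 2), L.el e3 * q * (L.el e3)⁻¹ ∈ zpowers (p ^ 2) := by
    intro q hq
    obtain ⟨k, rfl⟩ := mem_zpowers_iff.1 hq
    rw [← conj_zpow, ← conj_pow]
    refine zpow_mem ?_ k
    obtain ⟨j, hj⟩ := mem_zpowers_iff.1 (hP.ge (L.Kt_P L.e3_Kt hp))
    rw [← hj, ← zpow_natCast (p ^ j), ← zpow_mul, mul_comm, zpow_mul, zpow_natCast]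
    exact zpow_mem (mem_zpowers _) j
  have h2 := L.P_irred (zpowers_le.2 (pow_mem hp 2)) hinv (mem_zpowers _)
    (fun e => h (by rw [show p ^ 4 = (p ^ 2) ^ 2 by group, e, one_pow]))
    (fun e => h (by rw [show p ^ 4 = (p ^ 2) ^ 2 by group, e, pow_two, L.S.t_sq]))
  have := congrArg (fun H : Subgroup G => Nat.card H) h2
  simp only [Nat.card_zpowers, L.S.card_P, orderOf_pow, hord] at this
  norm_num at this

/-- An element of the fixed part fixing an element outside the centre centralises the quaternion group. -/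
theorem P_fix {y p : G} (hy : y ∈ L.Kt) (hp : p ∈ L.S.P) (hc : Commute p y) (h1 : p ≠ 1) (ht : p ≠ L.S.t) :
    ∀ q ∈ L.S.P, Commute q y := by
  have h := L.P_irred (S := L.S.P ⊓ centralizer {y}) inf_le_left (fun q hq => mem_inf.2
    ⟨L.Kt_P L.e3_Kt (mem_inf.1 hq).1, mem_centralizer_singleton_iff.2 (by
      have h' := (show Commute q y from mem_centralizer_singleton_iff.1 (mem_inf.1 hq).2).conj (L.el e3)
      rw [(L.Kt_commute L.e3_Kt hy).eq, mul_inv_cancel_right] at h'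
      exact h'.eq)⟩) (mem_inf.2 ⟨hp, mem_centralizer_singleton_iff.2 hc.eq⟩) h1 ht
  exact fun q hq => mem_centralizer_singleton_iff.1 (mem_inf.1 (h.ge hq)).2

theorem not_shift {y p : G} (hy : y ∈ L.Kt) (_hp : p ∈ L.S.P) : y * p * y⁻¹ ≠ p * L.S.t := by
  intro e
  have ht := L.t_conj (L.mem_Kt.1 hy).2
  have e2 : y * (y * p * y⁻¹) * y⁻¹ = p := by
    rw [e, show y * (p * L.S.t) * y⁻¹ = (y * p * y⁻¹) * (y * L.S.t * y⁻¹) by group, ht, e, mul_assoc, L.S.t_sq,
      mul_one]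
  have h1 : p = p * L.S.t := by
    calc p = y ^ 3 * p * (y ^ 3)⁻¹ := by rw [L.Kt_cube hy]; group
      _ = y * (y * (y * p * y⁻¹) * y⁻¹) * y⁻¹ := by rw [pow_three]; group
      _ = y * p * y⁻¹ := by rw [e2]
      _ = p * L.S.t := e
  exact L.S.t_ne (mul_eq_left.1 h1.symm)

/-- Every element of the fixed part is a power of the opposite point times one centralising the quaternion group. -/
theorem P_shift {x : G} (hx : x ∈ L.Kt) : ∃ a : ZMod 3, ∀ p ∈ L.S.P, Commute p (x * L.el (a • e3)) := by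
  classical
  obtain ⟨p, hp, hp1, hpt⟩ : ∃ p ∈ L.S.P, p ≠ 1 ∧ p ≠ L.S.t := by
    by_contra h
    push Not at h
    have hle : L.S.P ≤ zpowers L.S.t := fun q hq => by
      by_cases h1 : q = 1
      · exact h1 ▸ one_mem _
      · exact (h q hq h1) ▸ mem_zpowers _
    have := card_le_of_le hle
    rw [L.S.card_P, Nat.card_zpowers, orderOf_eq_prime (by rw [pow_two, L.S.t_sq]) L.S.t_ne] at this
    norm_num at this
  set E : ZMod 3 → G := fun a => L.el (a • e3) with hE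
  have hEK : ∀ a, E a ∈ L.Kt := fun a => L.el_mem_Kt (by simp [Pi.smul_apply, e3])
  have htmem : ∀ i : Fin 2, L.S.t ^ (i : ℕ) ∈ L.S.P := fun i => pow_mem L.S.t_mem _
  have htE : ∀ a (i : Fin 2), E a * L.S.t ^ (i : ℕ) * (E a)⁻¹ = L.S.t ^ (i : ℕ) := fun a i => by
    rw [← conj_pow, L.t_conj (L.mem_Kt.1 (hEK a)).2]
  have hEadd : ∀ a b, E (a + b) = E a * E b := fun a b => by
    simp only [hE, add_smul, L.el_add]
  -- the six conjugates by powers of the opposite point and their translates are all the elements outside the centre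
  set f : Option (ZMod 3) × Fin 2 → G := fun c =>
    match c.1 with
    | some a => E a * p * (E a)⁻¹ * L.S.t ^ (c.2 : ℕ)
    | none => L.S.t ^ (c.2 : ℕ) with hf
  have hfix : ∀ a : ZMod 3, ∀ i : Fin 2, E a * p * (E a)⁻¹ = p * L.S.t ^ (i : ℕ) → a = 0 := by
    intro a i e
    fin_cases i
    · simp only [pow_zero, mul_one] at e
      by_contra ha
      rcases L.P_move (a • e3) (by simp [e3]) (by simpa [e3] using ha) p hp
        (mul_inv_eq_iff_eq_mul.1 e).symm with e' | e'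
      exacts [hp1 e', hpt e']
    · simp only [pow_one] at e
      exact absurd e (L.not_shift (hEK a) hp)
  have hout : ∀ a (i j : Fin 2), E a * p * (E a)⁻¹ * L.S.t ^ (i : ℕ) ≠ L.S.t ^ (j : ℕ) := by
    intro a i j e
    have hpz : p ∈ zpowers L.S.t := by
      have e' : p = (E a)⁻¹ * (L.S.t ^ (j : ℕ) * (L.S.t ^ (i : ℕ))⁻¹) * E a := by rw [← e]; group
      have hc : Commute (E a) L.S.t := (L.mem_Kt.1 (hEK a)).2
      rw [e', mul_assoc, ← ((hc.pow_right (j : ℕ)).mul_right (hc.pow_right (i : ℕ)).inv_right).eq, inv_mul_cancel_left]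
      exact mul_mem (pow_mem (mem_zpowers _) _) (inv_mem (pow_mem (mem_zpowers _) _))
    obtain ⟨n, hn⟩ := (isOfFinOrder_of_finite _).mem_powers_iff_mem_zpowers.2 hpz
    change L.S.t ^ n = p at hn
    rcases Nat.even_or_odd' n with ⟨m, rfl | rfl⟩
    · exact hp1 (by rw [← hn, pow_mul, pow_two, L.S.t_sq, one_pow])
    · exact hpt (by rw [← hn, pow_succ, pow_mul, pow_two, L.S.t_sq, one_pow, one_mul])
  have htinj : ∀ i j : Fin 2, L.S.t ^ (i : ℕ) = L.S.t ^ (j : ℕ) → i = j := by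
    intro i j e
    fin_cases i <;> fin_cases j <;>
      first
        | rfl
        | exact absurd (by simpa using e) L.S.t_ne
        | exact absurd (by simpa using e.symm) L.S.t_ne
  let F : Option (ZMod 3) × Fin 2 → L.S.P := fun c => ⟨f c, by
    obtain ⟨o, i⟩ := c
    cases o with
    | none => exact htmem i
    | some a => exact mul_mem (L.Kt_P (hEK a) hp) (htmem i)⟩
  have hinj : Function.Injective F := by
    rintro ⟨o, i⟩ ⟨o', j⟩ e
    have e' : f (o, i) = f (o', j) := congrArg Subtype.val e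
    cases o with
    | none =>
      cases o' with
      | none => exact Prod.ext rfl (htinj i j e')
      | some b => exact absurd e'.symm (hout b j i)
    | some a =>
      cases o' with
      | none => exact absurd e' (hout a i j)
      | some b =>
        simp only [hf] at e'
        obtain ⟨l, hl⟩ : ∃ l : Fin 2, L.S.t ^ (j : ℕ) * (L.S.t ^ (i : ℕ))⁻¹ = L.S.t ^ (l : ℕ) := by
          fin_cases i <;> fin_cases j
          · exact ⟨0, by simp⟩
          · exact ⟨1, by simp⟩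
          · exact ⟨1, by simp [L.t_inv']⟩
          · exact ⟨0, by simp⟩
        have e3' : E (a - b) * p * (E (a - b))⁻¹ = p * L.S.t ^ (l : ℕ) := by
          have hab : E a = E b * E (a - b) := by rw [← hEadd, add_sub_cancel]
          have h1 : E b * (E (a - b) * p * (E (a - b))⁻¹) * (E b)⁻¹ = E b * p * (E b)⁻¹ * L.S.t ^ (l : ℕ) := by
            calc E b * (E (a - b) * p * (E (a - b))⁻¹) * (E b)⁻¹ = E a * p * (E a)⁻¹ := by rw [hab]; group
              _ = E a * p * (E a)⁻¹ * L.S.t ^ (i : ℕ) * (L.S.t ^ (i : ℕ))⁻¹ := by group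
              _ = E b * p * (E b)⁻¹ * L.S.t ^ (l : ℕ) := by rw [e', mul_assoc, hl]
          calc E (a - b) * p * (E (a - b))⁻¹
              = (E b)⁻¹ * (E b * (E (a - b) * p * (E (a - b))⁻¹) * (E b)⁻¹) * E b := by group
            _ = (E b)⁻¹ * (E b * p * (E b)⁻¹ * (E b * L.S.t ^ (l : ℕ) * (E b)⁻¹)) * E b := by rw [h1, htE]
            _ = p * L.S.t ^ (l : ℕ) := by group
        have hab := sub_eq_zero.1 (hfix _ l e3')
        subst hab
        exact Prod.ext rfl (htinj i j (mul_left_cancel e'))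
  haveI := Fintype.ofFinite L.S.P
  have hsurj := hinj.surjective_of_finite (Fintype.equivOfCardEq (by
    rw [Fintype.card_prod, Fintype.card_option, ZMod.card, Fintype.card_fin, Fintype.card_eq_nat_card, L.S.card_P]))
  obtain ⟨⟨o, i⟩, hi⟩ := hsurj ⟨x * p * x⁻¹, L.Kt_P hx hp⟩
  have hi' : f (o, i) = x * p * x⁻¹ := congrArg Subtype.val hi
  have hxt := L.t_conj (L.mem_Kt.1 hx).2
  cases o with
  | none =>
    exfalso
    have : p = L.S.t ^ (i : ℕ) := by
      calc p = x⁻¹ * (x * p * x⁻¹) * x := by group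
        _ = x⁻¹ * (x * L.S.t ^ (i : ℕ) * x⁻¹) * x := by rw [← hi', ← conj_pow, hxt]
        _ = L.S.t ^ (i : ℕ) := by group
    fin_cases i
    · exact hp1 (by simpa using this)
    · exact hpt (by simpa using this)
  | some a =>
    simp only [hf] at hi'
    have hy : x * E (-a) ∈ L.Kt := mul_mem hx (hEK _)
    have hEi : E (-a) = (E a)⁻¹ := eq_inv_of_mul_eq_one_left (by
      rw [← hEadd, neg_add_cancel]; simp [hE, L.el_zero])
    have hyp : x * E (-a) * p * (x * E (-a))⁻¹ = p * L.S.t ^ (i : ℕ) := by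
      have hcomm := (L.Kt_commute hx (hEK (-a))).eq
      calc x * E (-a) * p * (x * E (-a))⁻¹ = E (-a) * (x * p * x⁻¹) * (E (-a))⁻¹ := by rw [hcomm]; group
        _ = (E a)⁻¹ * (E a * p * (E a)⁻¹ * (E a * L.S.t ^ (i : ℕ) * (E a)⁻¹)) * E a := by
          rw [← hi', hEi, inv_inv, htE]
        _ = p * L.S.t ^ (i : ℕ) := by group
    refine ⟨-a, L.P_fix hy hp ?_ hp1 hpt⟩
    fin_cases i
    · simp only [Fin.val_zero, pow_zero, mul_one] at hyp
      exact (mul_inv_eq_iff_eq_mul.1 hyp).symm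
    · exact absurd (by simpa using hyp) (L.not_shift hy hp)

/-- The move to the `i`-th point. -/
noncomputable def tau (i : Fin 4) : G := (L.exists_lift (sM_isS6 (tp i)) (sM_refl (tp i))).choose

theorem tau_t (i : Fin 4) : Commute (L.tau i) L.S.t :=
  (L.exists_lift (sM_isS6 (tp i)) (sM_refl (tp i))).choose_spec.1

theorem tau_act (i : Fin 4) : L.Act (L.tau i) (sM (tp i)) :=
  (L.exists_lift (sM_isS6 (tp i)) (sM_refl (tp i))).choose_spec.2

theorem tau_NJ (i : Fin 4) : L.tau i ∈ L.NJ := (L.tau_act i).mem_NJ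

/-- The quaternion group at a point. -/
noncomputable def P4 (i : Fin 4) : Subgroup G := L.S.P.map (MulAut.conj (L.tau i)).toMonoidHom

theorem mem_P4 {i : Fin 4} {x : G} : x ∈ L.P4 i ↔ (L.tau i)⁻¹ * x * L.tau i ∈ L.S.P := by
  rw [P4, mem_map_equiv, MulAut.conj_symm_apply]

theorem P4_card (i : Fin 4) : Nat.card (L.P4 i) = 8 := by
  rw [P4, card_map_of_injective (MulEquiv.injective _), L.S.card_P]

theorem untau (i : Fin 4) (x : G) : x = L.tau i * ((L.tau i)⁻¹ * x * L.tau i) * (L.tau i)⁻¹ := by group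

theorem P4_zero : L.P4 0 = L.S.P := by
  refine eq_of_le_of_card_ge ?_ (by rw [L.P4_card, L.S.card_P])
  rintro _ ⟨p, hp, rfl⟩
  refine L.P_conj (L.tau_t 0) (L.tau_NJ 0) ?_ hp
  rw [← L.z_eq, L.tau_act 0, tp_pt, cp_zero]
  exact mem_zpowers _

theorem P4_le_Ct {i : Fin 4} {x : G} (hx : x ∈ L.P4 i) : Commute x L.S.t := by
  have h := (L.P_t (L.mem_P4.1 hx)).conj (L.tau i)
  rwa [← L.untau, L.t_conj (L.tau_t i)] at h

theorem P4_at {i : Fin 4} {x : G} (hx : x ∈ L.P4 i) : Commute x (L.el (cp i)) := by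
  have h := (L.z_commute.2 (L.P_z (L.mem_P4.1 hx))).conj (L.tau i)
  rwa [← L.untau, L.tau_act i, tp_pt] at h

theorem t_mem_P4 (i : Fin 4) : L.S.t ∈ L.P4 i := L.mem_P4.2 (by
  rw [L.t_inv_conj (L.tau_t i)]; exact L.S.t_mem)

theorem P4_invol {i : Fin 4} {x : G} (hx : x ∈ L.P4 i) (h2 : x * x = 1) : x = 1 ∨ x = L.S.t := by
  rcases L.S.P_invol _ (L.mem_P4.1 hx) (by
    rw [show (L.tau i)⁻¹ * x * L.tau i * ((L.tau i)⁻¹ * x * L.tau i) = (L.tau i)⁻¹ * (x * x) * L.tau i by group,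
      h2, mul_one, inv_mul_cancel]) with e | e
  · exact Or.inl (by rw [L.untau i x, e]; group)
  · exact Or.inr (by rw [L.untau i x, e, L.t_conj (L.tau_t i)])

theorem P4_four {i : Fin 4} {x : G} (hx : x ∈ L.P4 i) : x ^ 4 = 1 := by
  rw [L.untau i x, conj_pow, L.P_four (L.mem_P4.1 hx), mul_one, mul_inv_cancel]

theorem exists_pre (i : Fin 4) (v : V4) : ∃ u, (sM (tp i)).mulVec u = v := (sM_iso _).surjective v

/-- The plane at the tangent of a point centralises its group. -/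
theorem P4_comm {i : Fin 4} {x : G} (hx : x ∈ L.P4 i) {v : V4} (hv : v 1 = 0) (hb : bf v (cp i) = 0) :
    Commute x (L.el v) := by
  obtain ⟨u, rfl⟩ := exists_pre i v
  rw [(tp_bf i u).1] at hb
  rw [← L.tau_act i, L.untau i x]
  exact (L.el_P ((tp_bf i u).2.1 hv) hb (L.mem_P4.1 hx)).conj _

theorem P4_move {i : Fin 4} {x : G} (hx : x ∈ L.P4 i) {v : V4} (hv : v 1 = 0) (hb : bf v (cp i) ≠ 0)
    (hc : Commute x (L.el v)) : x = 1 ∨ x = L.S.t := by
  obtain ⟨u, rfl⟩ := exists_pre i v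
  rw [(tp_bf i u).1] at hb
  have hc' : Commute ((L.tau i)⁻¹ * x * L.tau i) (L.el u) := by
    have h := hc.conj (L.tau i)⁻¹
    rw [inv_inv, (L.tau_act i).inv_apply] at h
    exact h
  rcases L.P_move u ((tp_bf i u).2.1 hv) hb _ (L.mem_P4.1 hx) hc' with e | e
  · exact Or.inl (by rw [L.untau i x, e]; group)
  · exact Or.inr (by rw [L.untau i x, e, L.t_conj (L.tau_t i)])

/-- The normaliser of the plane permutes the four groups. -/
theorem P4_map {g : G} (hgt : Commute g L.S.t) (hg : g ∈ L.NJ) {i j : Fin 4}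
    (h : g * L.el (cp i) * g⁻¹ = L.el (cp j) ∨ g * L.el (cp i) * g⁻¹ = L.el (-cp j)) {x : G} (hx : x ∈ L.P4 i) :
    g * x * g⁻¹ ∈ L.P4 j := by
  set n := (L.tau j)⁻¹ * g * L.tau i with hn
  rw [L.mem_P4, show (L.tau j)⁻¹ * (g * x * g⁻¹) * L.tau j = n * ((L.tau i)⁻¹ * x * L.tau i) * n⁻¹ by
    rw [hn]; group]
  refine L.P_conj (((L.tau_t j).inv_left.mul_left hgt).mul_left (L.tau_t i))
    (mul_mem (mul_mem (inv_mem (L.tau_NJ j)) hg) (L.tau_NJ i)) ?_ (L.mem_P4.1 hx)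
  rw [← L.z_eq, show n * L.el e0 * n⁻¹ = (L.tau j)⁻¹ * (g * (L.tau i * L.el e0 * (L.tau i)⁻¹) * g⁻¹) * L.tau j by
    rw [hn]; group, L.tau_act i, tp_pt]
  rcases h with e | e <;> rw [e]
  · rw [← tp_pt j, (L.tau_act j).inv_apply]
    exact mem_zpowers _
  · rw [← tp_pt j, ← Matrix.mulVec_neg, (L.tau_act j).inv_apply, L.el_neg]
    exact inv_mem (mem_zpowers _)

theorem Kt_P4 {i : Fin 4} {y x : G} (hy : y ∈ L.Kt) (hx : x ∈ L.P4 i) : y * x * y⁻¹ ∈ L.P4 i :=
  L.P4_map (L.mem_Kt.1 hy).2 (L.K_le_NJ (L.mem_Kt.1 hy).1)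
    (Or.inl (by rw [(L.Kt_el hy _).eq, mul_inv_cancel_right])) hx

theorem P4_inv (i : Fin 4) {v : V4} (hv : v 1 = 0) {x : G} (hx : x ∈ L.P4 i) :
    L.el v * x * (L.el v)⁻¹ ∈ L.P4 i := L.Kt_P4 (L.el_mem_Kt hv) hx

theorem tau_Kt {i : Fin 4} {y : G} (hy : y ∈ L.Kt) : (L.tau i)⁻¹ * y * L.tau i ∈ L.Kt := by
  have := L.conj_Kt (L.NJ.inv_mem (L.tau_NJ i)) (L.tau_t i).inv_left hy
  rwa [inv_inv] at this

/-- An element of the fixed part fixing an element outside the centre centralises the group at the point. -/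
theorem P4_fix {i : Fin 4} {y x : G} (hy : y ∈ L.Kt) (hx : x ∈ L.P4 i) (hc : Commute x y) (h1 : x ≠ 1)
    (ht : x ≠ L.S.t) : ∀ q ∈ L.P4 i, Commute q y := by
  intro q hq
  have hc' : Commute ((L.tau i)⁻¹ * x * L.tau i) ((L.tau i)⁻¹ * y * L.tau i) := by
    have h := hc.conj (L.tau i)⁻¹
    rwa [inv_inv] at h
  have h := L.P_fix (L.tau_Kt hy) (L.mem_P4.1 hx) hc'
    (fun e => h1 (by rw [L.untau i x, e]; group))
    (fun e => ht (by rw [L.untau i x, e, L.t_conj (L.tau_t i)])) _ (L.mem_P4.1 hq)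
  have h' := h.conj (L.tau i)
  rwa [← L.untau, ← L.untau] at h'

theorem P4_shift {i : Fin 4} {x : G} (hx : x ∈ L.Kt) :
    ∃ a : ZMod 3, ∀ p ∈ L.P4 i, Commute p (x * L.el (a • opp i)) := by
  obtain ⟨a, ha⟩ := L.P_shift (L.tau_Kt (i := i) hx)
  refine ⟨a, fun p hp => ?_⟩
  have h := (ha _ (L.mem_P4.1 hp)).conj (L.tau i)
  rw [← L.untau, show L.tau i * ((L.tau i)⁻¹ * x * L.tau i * L.el (a • e3)) * (L.tau i)⁻¹ =
    x * (L.tau i * L.el (a • e3) * (L.tau i)⁻¹) by group, L.tau_act i, Matrix.mulVec_smul] at h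
  exact h

/-! ### The largest signaliser at a point -/

theorem sig_zero {X : Subgroup G} (hz : ∀ x ∈ X, Commute x L.S.z) (ht : ∀ x ∈ X, Commute x L.S.t)
    (hcop : (Nat.card X).Coprime 3) (hinv : ∀ x ∈ X, L.el e2 * x * (L.el e2)⁻¹ ∈ X) : X ≤ L.S.P := by
  intro x hx
  have hxn : x ^ Nat.card X = 1 := congrArg Subtype.val (pow_card_eq_one' (x := (⟨x, hx⟩ : X)))
  obtain ⟨q, hq, p, hp, p', hp', k, hk, hxe⟩ := L.centT x (hz x hx) (ht x hx)
  have hkp : L.S.Pres k := L.S.pres_of_fix (L.Kt_z hk) (Or.inl L.e1_mem) L.e1_notZ (by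
    rw [commutatorElement_eq_one_iff_mul_comm.2 (L.Kt_el hk e1).eq]; exact one_mem _)
  have hxp : L.S.Pres x := hxe ▸ L.S.presGrp.mul_mem (L.S.presGrp.mul_mem (L.S.presGrp.mul_mem
    (L.S.pres_Q (L.S.le2 hq)) (L.S.pres_P hp)) (L.S.pres_P' hp')) hkp
  have hcX : ⁅x, L.el e2⁆ ∈ X := by
    rw [commutatorElement_def, show x * L.el e2 * x⁻¹ * (L.el e2)⁻¹ = x * (L.el e2 * x⁻¹ * (L.el e2)⁻¹) by group]
    exact mul_mem hx (hinv _ (inv_mem hx))
  have hcQ : ⁅x, L.el e2⁆ ∈ L.S.Q :=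
    L.S.le2 (by rw [commutatorElement_def]; exact mul_mem (hxp.2.2 _ L.e2_mem) (inv_mem L.e2_mem))
  have hc1 : ⁅x, L.el e2⁆ = 1 := orderOf_eq_one_iff.1 (Nat.eq_one_of_dvd_coprimes hcop
    (by rw [← orderOf_mk (⟨_, hcX⟩ : X).1 ((⟨_, hcX⟩ : X).2)]; exact orderOf_dvd_natCard _)
    (orderOf_dvd_of_pow_eq_one (L.S.exp _ hcQ)))
  obtain ⟨p1, hp1, k1, hk1, rfl⟩ := L.cent_ze2 (hz x hx) (ht x hx) (commutatorElement_eq_one_iff_mul_comm.1 hc1)
  have hpow : ∀ n : ℕ, ∃ p2 ∈ L.S.P, (p1 * k1) ^ n = p2 * k1 ^ n := fun n => by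
    induction n with
    | zero => exact ⟨1, one_mem _, by simp⟩
    | succ n ih =>
      obtain ⟨p2, hp2, e⟩ := ih
      refine ⟨p2 * (k1 ^ n * p1 * (k1 ^ n)⁻¹), mul_mem hp2 (L.Kt_P (pow_mem hk1 n) hp1), ?_⟩
      rw [pow_succ, e, pow_succ k1]; group
  obtain ⟨p2, hp2, e⟩ := hpow (Nat.card X)
  rw [hxn] at e
  have hk8 : (k1 ^ Nat.card X) ^ 8 = 1 := by
    rw [eq_inv_of_mul_eq_one_right e.symm, inv_pow, L.P_pow8 hp2, inv_one]
  have hkn : k1 ^ Nat.card X = 1 := orderOf_eq_one_iff.1 (Nat.eq_one_of_dvd_coprimes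
    (by norm_num : Nat.Coprime 8 3) (orderOf_dvd_of_pow_eq_one hk8)
    (orderOf_dvd_of_pow_eq_one (by rw [← pow_mul, mul_comm, pow_mul, L.Kt_cube hk1, one_pow])))
  have hk0 : k1 = 1 := orderOf_eq_one_iff.1 (Nat.eq_one_of_dvd_coprimes hcop
    (orderOf_dvd_of_pow_eq_one hkn) (orderOf_dvd_of_pow_eq_one (L.Kt_cube hk1)))
  rw [hk0, mul_one]
  exact hp1

/-- The group at a point is the largest signaliser there. -/
theorem sig_point (i : Fin 4) {X : Subgroup G} (hp : ∀ x ∈ X, Commute x (L.el (cp i)))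
    (ht : ∀ x ∈ X, Commute x L.S.t) (hcop : (Nat.card X).Coprime 3)
    (hinv : ∀ y ∈ L.Kt, ∀ x ∈ X, y * x * y⁻¹ ∈ X) : X ≤ L.P4 i := by
  set g := L.tau i with hg
  have h := L.sig_zero (X := X.map (MulAut.conj g⁻¹).toMonoidHom) (by
      rintro _ ⟨x, hx, rfl⟩
      have h := (hp x hx).conj g⁻¹
      rw [inv_inv, ← tp_pt i, (L.tau_act i).inv_apply] at h
      simpa [hg] using L.z_commute.1 h) (by
      rintro _ ⟨x, hx, rfl⟩
      have h := (ht x hx).conj g⁻¹
      rw [inv_inv, L.t_inv_conj (L.tau_t i)] at h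
      simpa using h)
    (by rwa [card_map_of_injective (MulEquiv.injective _)]) (by
      rintro _ ⟨x, hx, rfl⟩
      refine ⟨_, hinv _ (L.conj_Kt (L.tau_NJ i) (L.tau_t i) (L.el_mem_Kt (v := e2) (by decide))) x hx, ?_⟩
      simp [hg, mul_assoc])
  intro x hx
  rw [L.mem_P4, ← hg]
  have := h ⟨x, hx, rfl⟩
  simpa using this

end Loc

end Cfsg.Agent.U62Three
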